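import Groth.Agent.CurveOmega.Duality
import Groth.Agent.W7FlatBC.Sections
import Groth.Agent.OmegaLib.BaseChange
import Groth.Agent.OmegaLib.Compat
import Groth.Agent.LocalDimBC.Scheme
import Groth.Agent.DualGeneric.SubL
import Groth.Agent.CurveRR.Easy
import Groth.Agent.TMul.Pullback
import Groth.Agent.S5792
import Groth.Agent.W7Cover.GeomConn
import Mathlib.FieldTheory.IsAlgClosed.AlgebraicClosure

/-!
The sheaf of differentials of a smooth proper curve over any field with global functions the constants, by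
base change to the algebraic closure.
-/

set_option autoImplicit false
set_option backward.isDefEq.respectTransparency false
set_option linter.style.haveILetI false
set_option linter.unusedSectionVars false
set_option maxHeartbeats 1000000

universe u

open CategoryTheory CategoryTheory.Limits AlgebraicGeometry TopologicalSpace
open Groth.Agent.CohFinite

noncomputable section

namespace Groth.Agent.CurveOmega

variable (k : Type u) [Field k] (X : Scheme.{u}) [X.Over (Spec (CommRingCat.of k))]

/-- The base change to the algebraic closure. -/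
abbrev bar : Scheme.{u} :=
  pullback (X ↘ Spec (CommRingCat.of k)) (Spec.map (CommRingCat.ofHom (algebraMap k (AlgebraicClosure k))))

/-- The projection to `X`. -/
abbrev barFst : bar k X ⟶ X := pullback.fst _ _

instance overBar : (bar k X).Over (Spec (CommRingCat.of (AlgebraicClosure k))) := ⟨pullback.snd _ _⟩

theorem isPullback_bar : IsPullback (barFst k X) (bar k X ↘ Spec (CommRingCat.of (AlgebraicClosure k)))
    (X ↘ Spec (CommRingCat.of k)) (Spec.map (CommRingCat.ofHom (algebraMap k (AlgebraicClosure k)))) :=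
  IsPullback.of_hasPullback _ _

/-- Cohomology over the algebraic closure. -/
theorem h_bar [IsProper (X ↘ Spec (CommRingCat.of k))] {M : X.Modules} (hM : Coh.IsQCoh M) (i : ℕ) :
    CurveRR.h (AlgebraicClosure k) ((Scheme.Modules.pullback (barFst k X)).obj M) i = CurveRR.h k M i := by
  haveI := CurveRR.isNoetherian_of_proper k X
  obtain ⟨e⟩ := W7FlatBC.nonempty_hh_baseChange k (AlgebraicClosure k) (barFst k X) (isPullback_bar k X) M hM i
  exact e.finrank_eq.symm.trans (Module.finrank_baseChange (R := AlgebraicClosure k))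

variable [IsProper (X ↘ Spec (CommRingCat.of k))] [Smooth (X ↘ Spec (CommRingCat.of k))]
  (hdim : topologicalKrullDim X = 1)
  (h0 : CurveRR.h k (Coh.structureModule X) 0 = 1)

theorem h_bar_structure (i : ℕ) :
    CurveRR.h (AlgebraicClosure k) (Coh.structureModule (bar k X)) i = CurveRR.h k (Coh.structureModule X) i := by
  haveI := CurveRR.isNoetherian_of_proper k X
  rw [← h_bar k X RefStalk.isCoh_structureModule.1 i]
  exact (CurveRR.h_eq_of_iso (PicLoc.pullbackStructureIso (barFst k X)) i).symm

theorem genus_bar : Curv2.genus (AlgebraicClosure k) (bar k X) = Curv2.genus k X := h_bar_structure k X 1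

include hdim h0 in
theorem smoothProper_bar : Curve.IsSmoothProperCurve (AlgebraicClosure k) (bar k X)
    (bar k X ↘ Spec (CommRingCat.of (AlgebraicClosure k))) := by
  haveI hp : IsProper (bar k X ↘ Spec (CommRingCat.of (AlgebraicClosure k))) :=
    MorphismProperty.of_isPullback (P := @IsProper) (isPullback_bar k X) ‹_›
  haveI hs : Smooth (bar k X ↘ Spec (CommRingCat.of (AlgebraicClosure k))) :=
    MorphismProperty.of_isPullback (P := @Smooth) (isPullback_bar k X) ‹_›
  haveI := DualGeneric.Sub.connectedSpace_of_h0 (AlgebraicClosure k)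
    (X := bar k X) ((h_bar_structure k X 0).trans h0)
  haveI hi : IsIntegral (bar k X) := CurveRR.Easy.isIntegral_of_smooth (k := AlgebraicClosure k)
  refine ⟨hp, hs, hi, ?_⟩
  haveI : Surjective (Spec.map (CommRingCat.ofHom (algebraMap k (AlgebraicClosure k)))) :=
    ⟨fun _ => ⟨IsLocalRing.closedPoint _, Subsingleton.elim _ _⟩⟩
  haveI : Surjective (barFst k X) :=
    MorphismProperty.of_isPullback (P := @Surjective) (isPullback_bar k X).flip inferInstance
  rw [Groth.Agent.S5792.result, ← hdim, Groth.Agent.S5792.result X]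
  refine le_antisymm (iSup_le fun z => ?_) (iSup_le fun x => ?_)
  · rw [LocalDimBC.localDim_of_isPullback (X ↘ Spec (CommRingCat.of k)) _ (barFst k X) _ (isPullback_bar k X) z]
    exact le_iSup (fun x : X => FlatMor.localDim X x) _
  · obtain ⟨z, rfl⟩ := (barFst k X).surjective x
    rw [← LocalDimBC.localDim_of_isPullback (X ↘ Spec (CommRingCat.of k)) _ (barFst k X) _ (isPullback_bar k X) z]
    exact le_iSup (fun z : ↥(bar k X) => FlatMor.localDim (bar k X) z) _

/-- Differentials over the algebraic closure. -/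
theorem nonempty_omega_bar : Nonempty ((Scheme.Modules.pullback (barFst k X)).obj
    (Omega.sheaf (X ↘ Spec (CommRingCat.of k))) ≅
      Omega.sheaf (bar k X ↘ Spec (CommRingCat.of (AlgebraicClosure k)))) := by
  haveI : IsProper (bar k X ↘ Spec (CommRingCat.of (AlgebraicClosure k))) :=
    MorphismProperty.of_isPullback (P := @IsProper) (isPullback_bar k X) ‹_›
  have hd := OmegaLib.isUniversal_dOmega (X ↘ Spec (CommRingCat.of k))
  have hd' := OmegaLib.isUniversal_dOmega (bar k X ↘ Spec (CommRingCat.of (AlgebraicClosure k)))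
  obtain ⟨c, hc, -⟩ := OmegaLib.existsUnique_diffCompat (isPullback_bar k X).w.symm hd
    (OmegaSh.dOmega (bar k X ↘ Spec (CommRingCat.of (AlgebraicClosure k))))
  haveI := OmegaLib.isIso_of_isPullback (isPullback_bar k X) hd hd' hc
  exact ⟨asIso c⟩

theorem isQCoh_omega : Coh.IsQCoh (Omega.sheaf (X ↘ Spec (CommRingCat.of k))) :=
  OmegaLib.isQCoh_of_isUniversal (OmegaLib.isUniversal_dOmega _)

theorem h_omega_bar (i : ℕ) :
    CurveRR.h (AlgebraicClosure k) (Omega.sheaf (bar k X ↘ Spec (CommRingCat.of (AlgebraicClosure k)))) i =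
      CurveRR.h k (Omega.sheaf (X ↘ Spec (CommRingCat.of k))) i := by
  obtain ⟨e⟩ := nonempty_omega_bar k X
  rw [← h_bar k X (isQCoh_omega k X) i, CurveRR.h_eq_of_iso e i]

include hdim h0 in
/-- Genus and degree of the differentials. -/
theorem omega_facts' : CurveRR.h k (Omega.sheaf (X ↘ Spec (CommRingCat.of k))) 0 = Curv2.genus k X ∧
    CurveRR.h k (Omega.sheaf (X ↘ Spec (CommRingCat.of k))) 1 = 1 ∧
    Curv2.deg k X (Omega.sheaf (X ↘ Spec (CommRingCat.of k))) 1 = 2 * (Curv2.genus k X : ℤ) - 2 := by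
  obtain ⟨-, e0, -, e1⟩ := omega_facts (AlgebraicClosure k) (bar k X) (smoothProper_bar k X hdim h0)
  rw [h_omega_bar, genus_bar] at e0
  rw [h_omega_bar] at e1
  refine ⟨e0, e1, ?_⟩
  rw [Curv2.deg, CurveRR.euler_eq hdim.le, CurveRR.euler_structure hdim.le h0, e0, e1]
  push_cast
  ring

include hdim h0 in
/-- The differentials form an invertible module. -/
theorem isInvertible_omega : PicF.IsInvertible (Omega.sheaf (X ↘ Spec (CommRingCat.of k))) := by
  haveI := CurveRR.isNoetherian_of_proper k X
  haveI := DualGeneric.Sub.connectedSpace_of_h0 k (X := X) h0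
  refine ZeroSch.isInvertible_of_rankOne fun x => ?_
  obtain ⟨U, n, hxU, hiso, hn⟩ := OmegaLib.exists_free_rank_fibreDimAt
    (OmegaLib.isUniversal_dOmega (X ↘ Spec (CommRingCat.of k))) x
  have hC := smoothProper_bar k X hdim h0
  haveI := hC.2.2.1
  haveI : Surjective (Spec.map (CommRingCat.ofHom (algebraMap k (AlgebraicClosure k)))) :=
    ⟨fun _ => ⟨IsLocalRing.closedPoint _, Subsingleton.elim _ _⟩⟩
  haveI : Surjective (barFst k X) :=
    MorphismProperty.of_isPullback (P := @Surjective) (isPullback_bar k X).flip inferInstance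
  obtain ⟨z, rfl⟩ := (barFst k X).surjective x
  haveI := instNoeth hC
  rw [← LocalDimBC.fibreDimAt_of_isPullback _ _ _ _ (isPullback_bar k X) z, fibreDimAt_eq_one hC] at hn
  obtain rfl : n = 1 := by exact_mod_cast hn.symm
  exact ⟨U, hxU, hiso⟩

include hdim h0 in
/-- An invertible module of degree `2g-2` with `g` sections is the module of differentials. -/
theorem nonempty_iso_omega' [IsIntegral X] {L : X.Modules} (hL : PicF.IsInvertible L)
    (hdeg : Curv2.deg k X L 1 = 2 * (Curv2.genus k X : ℤ) - 2) (hh0 : Curv2.genus k X ≤ CurveRR.h k L 0) :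
    Nonempty (L ≅ Omega.sheaf (X ↘ Spec (CommRingCat.of k))) := by
  have hI := isInvertible_omega k X hdim h0
  obtain ⟨o0, o1, odeg⟩ := omega_facts' k X hdim h0
  obtain ⟨N, hN, ⟨θ⟩⟩ := W7Hull.exists_tensor_inverse hI
  have hLN := TMul.isInvertible_tensorMod hL hN
  have hC := smoothProper_bar k X hdim h0
  haveI := hC.1
  haveI := hC.2.2.1
  let g := barFst k X
  let K := AlgebraicClosure k
  have hL' : PicF.IsInvertible ((Scheme.Modules.pullback g).obj L) := PicLoc.isInvertible_pullback g hL
  have hLcoh := (CurveRR.isCoh_of_inv hL).1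
  have hd' : Curv2.deg K (bar k X) ((Scheme.Modules.pullback g).obj L) 1 =
      2 * (Curv2.genus K (bar k X) : ℤ) - 2 := by
    rw [genus_bar, ← hdeg, Curv2.deg, Curv2.deg, CurveRR.euler_eq hdim.le, CurveRR.euler_eq hC.2.2.2.le,
      CurveRR.euler_structure hdim.le h0,
      CurveRR.euler_structure hC.2.2.2.le ((h_bar_structure k X 0).trans h0), h_bar k X hLcoh, h_bar k X hLcoh,
      genus_bar]
  obtain ⟨e⟩ := nonempty_iso_omega K (bar k X) hC hL' hd' (by rw [genus_bar, h_bar k X hLcoh]; exact hh0)
  obtain ⟨eΩ⟩ := nonempty_omega_bar k X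
  obtain ⟨t1⟩ := TMul.nonempty_pullTensorIso g L N
  obtain ⟨t2⟩ := TMul.nonempty_pullTensorIso g (Omega.sheaf (X ↘ Spec (CommRingCat.of k))) N
  have ψ : (Scheme.Modules.pullback g).obj (CohB1.tensorMod L N) ≅ Coh.structureModule (bar k X) :=
    t1.symm ≪≫ PicGrp.tensorModIso (e ≪≫ eΩ.symm) (Iso.refl _) ≪≫ t2 ≪≫
      (Scheme.Modules.pullback g).mapIso θ ≪≫ PicLoc.pullbackStructureIso g
  have h1 : CurveRR.h k (CohB1.tensorMod L N) 0 = 1 := by
    rw [← h_bar k X (CurveRR.isCoh_of_inv hLN).1 0, CurveRR.h_eq_of_iso ψ 0, h_bar_structure, h0]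
  obtain ⟨s, hs⟩ := CurveRR.exists_section (k := k) (L := CohB1.tensorMod L N) (by omega)
  have hdN : Curv2.deg k X (CohB1.tensorMod L N) 1 = 0 := by
    have h2 := CurveRR.deg_tensor_inv (k := k) hdim.le hI hN
    rw [Curv2.deg, CurveRR.euler_eq_of_iso θ] at h2
    have h3 : Curv2.deg k X (Coh.structureModule X) 1 = 0 := CurveRR.deg_structure
    rw [Curv2.deg] at h3
    rw [CurveRR.deg_tensor_inv (k := k) hdim.le hL hN]
    omega
  obtain ⟨ε⟩ := CurveRR.nonempty_iso_of_section (k := k) hdim.le hLN s hs hdN.le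
  exact ⟨(SecTwist.unitorR L).symm ≪≫ PicGrp.tensorModIso (Iso.refl L) (TMul.commIso _ _ ≪≫ θ).symm ≪≫
    (TMul.assocIso L N _).symm ≪≫ PicGrp.tensorModIso ε (Iso.refl _) ≪≫ TMul.leftUnitIso _⟩

end Groth.Agent.CurveOmega
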