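import Groth.Agent.CurveRR.Point
import Groth.Agent.CurveRR.GlobGen
import Groth.Agent.CurveRR.Deg
import Groth.Agent.CurveRR.SmoothPt
import Groth.Agent.DualGeneric.PointDeg
import Groth.Agent.W7Cover.GeomConn
import Groth.Agent.NegTwist.Main

/-!
Sections vanishing at a point, and points of degree one line bundles on genus one curves.
-/

set_option autoImplicit false
set_option backward.isDefEq.respectTransparency false
set_option linter.style.haveILetI false

universe u

open CategoryTheory CategoryTheory.Limits AlgebraicGeometry TopologicalSpace Opposite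
open Groth.Agent.CohFinite Groth.Agent.CurveRR
open Groth.Agent.QC (res resO res_res res_smul app_res res_self)
open TMul (IsGen homOf val_homOf tm)

noncomputable section

namespace Groth.Agent.CurveOmega

section
variable {X : Scheme.{u}} {L : X.Modules}

/-- Off a closed set, a generator of `I ⊗ L` gives a generator of `L`. -/
theorem mem_genLocus_idealIncl (hL : PicF.IsInvertible L) (Z : Closeds X)
    {u : Γ(CohB1.tensorMod (ClSub.idealMod (Scheme.IdealSheafData.vanishingIdeal Z)) L, ⊤)} [IsIso (homOf u)]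
    {z : X} (hz : z ∉ (Z : Set X)) :
    z ∈ CohB1.genLocus L (homOf ((idealIncl (Scheme.IdealSheafData.vanishingIdeal Z) L).app ⊤ u)) := by
  let I := Scheme.IdealSheafData.vanishingIdeal Z
  obtain ⟨D, g, hzD, hg⟩ := TMul.exists_isGen hL z
  let D' : X.Opens := D ⊓ ⟨(Z : Set X)ᶜ, Z.isClosed.isOpen_compl⟩
  obtain ⟨W, hW, hzW, hWD⟩ := exists_isAffineOpen_mem_and_subset (x := z) (U := D') ⟨hzD, hz⟩
  have hWD₁ : W ≤ D := fun x hx => (hWD hx).1
  have hideal : (1 : Γ(X, W)) ∈ I.ideal ⟨W, hW⟩ := by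
    simp only [I, Scheme.IdealSheafData.vanishingIdeal_ideal]
    rw [show hW.fromSpec ⁻¹' (Z : Set X) = ∅ from Set.eq_empty_of_forall_notMem fun p hp =>
      (hWD (hW.range_fromSpec.le ⟨p, rfl⟩)).2 hp, PrimeSpectrum.vanishingIdeal_empty]
    trivial
  obtain ⟨a, ha⟩ := (Groth.Agent.QC.mem_range_idealModι_affine I ⟨W, hW⟩ _).mpr hideal
  obtain ⟨w, hw⟩ := (TMul.tm_bijective (M := ClSub.idealMod I) (hg.res hWD₁) W le_rfl).2 (res _ le_top u)
  change tm w (res L le_rfl (res L hWD₁ g)) = _ at hw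
  rw [res_self] at hw
  let c : Γ(X, W) := (ClSub.idealModι I).app W w
  have hc : (idealIncl I L).app W (res _ le_top u) = c • res L hWD₁ g := by
    rw [← hw, idealIncl_tm]
  obtain ⟨b, hb⟩ : ∃ b, (homOf u).app W b = tm a (res L hWD₁ g) := ⟨(inv (homOf u)).app W (tm a (res L hWD₁ g)),
    ConcreteCategory.congr_hom (congrArg (fun φ => Scheme.Modules.Hom.app φ W) (IsIso.inv_hom_id (homOf u))) _⟩
  let b' : Γ(X, W) := b
  have h1 : (idealIncl I L).app W ((homOf u).app W b) = b' • (c • res L hWD₁ g) := by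
    rw [TMul.app_eq_smul, TMul.app_smul, val_homOf, hc]
  have h2 : (idealIncl I L).app W ((homOf u).app W b) = (1 : Γ(X, W)) • res L hWD₁ g := by
    rw [hb, idealIncl_tm]
    exact congrArg (· • res L hWD₁ g) ha
  have hu : IsUnit c := by
    refine IsUnit.of_mul_eq_one b' ?_
    rw [mul_comm]
    refine ((hg.res hWD₁) W le_rfl).1 ?_
    show (b' * c) • res L le_rfl (res L hWD₁ g) = (1 : Γ(X, W)) • res L le_rfl (res L hWD₁ g)
    rw [res_self, mul_smul, ← h1, h2]
  refine (TMul.mem_genLocus_iff_isUnit _ (hg.res hWD₁) (c := c) ?_ hzW).mpr (hu.map (X.presheaf.germ W z hzW).hom)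
  rw [val_homOf, app_res]
  exact hc

end

attribute [local instance] Curv2.resAlgebra

variable {k : Type u} [Field k] {X : Scheme.{u}} [X.Over (Spec (CommRingCat.of k))]
  [IsProper (X ↘ Spec (CommRingCat.of k))] [IsIntegral X]

/-- A degree one invertible module with a section comes from a rational point. -/
theorem exists_point_of_deg_one [Smooth (X ↘ Spec (CommRingCat.of k))] (hdim : topologicalKrullDim X = 1)
    {L : X.Modules} (hL : PicF.IsInvertible L) (hdeg : Curv2.deg k X L 1 = 1) (h : h k L 0 ≠ 0) :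
    ∃ (P : X) (hP : IsClosed ({P} : Set X)), Function.Bijective (Curv2.resMap k X P) ∧
      Nonempty (CohB1.tensorMod (ClSub.idealMod (Scheme.IdealSheafData.vanishingIdeal ⟨{P}, hP⟩)) L ≅
        Coh.structureModule X) := by
  haveI := isNoetherian_of_proper k X
  obtain ⟨s, hs⟩ := exists_section (k := k) h
  obtain ⟨x, hx⟩ : ∃ x, x ∉ CohB1.genLocus L s := by
    by_contra! hall
    have hg : IsGen (TMul.val s ⊤) := by
      have h := TMul.isGen_genLocus s
      rwa [show CohB1.genLocus L s = ⊤ from top_le_iff.mp fun x _ => hall x] at h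
    haveI : IsIso s := GrT.isIso_of_locally s
      (fun U a b hab => (hg U le_top).1 (by
        simpa only [TMul.app_eq_smul, TMul.res_val] using hab))
      fun U t x hx => ⟨U, le_rfl, hx, by
        obtain ⟨a, ha⟩ := (hg U le_top).2 t
        exact ⟨a, by rw [res_self, TMul.app_eq_smul, ← ha]; simp only [TMul.res_val]⟩⟩
    have := euler_eq_of_iso (k := k) (asIso s)
    rw [Curv2.deg, ← this] at hdeg
    have h3 : Curv2.deg k X (Coh.structureModule X) 1 = 0 := deg_structure
    rw [Curv2.deg] at h3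
    omega
  obtain ⟨P, hPx, hPc⟩ := (isClosed_closure (s := ({x} : Set X))).exists_closed_singleton ⟨x, subset_closure rfl⟩
  have hPn : P ∉ CohB1.genLocus L s := fun hP =>
    hx ((specializes_iff_mem_closure.mpr hPx).mem_open (CohB1.genLocus L s).2 hP)
  refine ⟨P, hPc, ?_⟩
  set I := Scheme.IdealSheafData.vanishingIdeal ⟨{P}, hPc⟩ with hIdef
  have hI := isInvertible_pointIdeal hdim.le hPc (genericPoint_ne_of_closed (k := k) hdim hPc)
    (SmLocalST.isRegularLocalRing_stalk_of_smooth_field (X ↘ Spec (CommRingCat.of k)) _)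
  have hN := TMul.isInvertible_tensorMod hI hL
  let t := TMul.val s ⊤
  have hts : homOf t = s := TMul.hom_ext_val (val_homOf t ⊤ |>.trans (Groth.Agent.QC.res_self _ _ _))
  obtain ⟨u, hu⟩ := mem_range_idealIncl hL ⟨{P}, hPc⟩ t fun z hz => by
    rw [Set.mem_singleton_iff.mp hz, hts]; exact hPn
  have hu0 : homOf u ≠ 0 := fun h0' => hs (by
    have e : u = 0 := by
      have := congrArg (fun φ => TMul.val φ ⊤) h0'
      simp only [val_homOf, res_self] at this
      exact this
    rw [← hts, ← hu, e, map_zero]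
    exact TMul.hom_ext_val (by rw [val_homOf, map_zero]; rfl))
  have he := euler_ideal_tensor (k := k) hL I (point_dim hPc)
  rw [DualGeneric.h0_quotMod_residue k hPc] at he
  have hdN : Curv2.deg k X (CohB1.tensorMod (ClSub.idealMod I) L) 1 = 1 - Module.finrank k (X.residueField P) := by
    rw [Curv2.deg, he]
    rw [Curv2.deg] at hdeg
    linarith
  obtain ⟨hle, hiso⟩ := deg_le_and_isIso (k := k) hdim.le TMul.isInvertible_structureModule hN (homOf u) hu0
  rw [deg_structure, hdN] at hle hiso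
  have hpos : 0 < Module.finrank k (X.residueField P) := by
    rw [← DualGeneric.h0_quotMod_residue k hPc]
    exact h0_quotMod_pos (k := k) I (by simp [hIdef])
  haveI : Module.Finite k (X.residueField P) := Module.finite_of_finrank_pos hpos
  haveI := hiso (by omega)
  exact ⟨Algebra.finrank_eq_one_iff_bijective_algebraMap.mp (by omega),
    ⟨(asIso (homOf u)).symm⟩⟩

/-- Two points with isomorphic ideals on a curve of positive genus coincide. -/
theorem point_eq (hdim : topologicalKrullDim X = 1) {L : X.Modules} (hL : PicF.IsInvertible L)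
    (h1 : h k L 0 ≤ 1) {P Q : X} (hP : IsClosed ({P} : Set X)) (hQ : IsClosed ({Q} : Set X))
    (eP : CohB1.tensorMod (ClSub.idealMod (Scheme.IdealSheafData.vanishingIdeal ⟨{P}, hP⟩)) L ≅ Coh.structureModule X)
    (eQ : CohB1.tensorMod (ClSub.idealMod (Scheme.IdealSheafData.vanishingIdeal ⟨{Q}, hQ⟩)) L ≅ Coh.structureModule X) :
    P = Q := by
  by_contra hne
  haveI := isNoetherian_of_proper k X
  haveI := finite_proper k X _ (isCoh_of_inv hL) 0
  letI := secMod k L ⊤
  haveI : Module.Finite k Γ(L, ⊤) := Module.Finite.equiv (secH0 (k := k) L).symm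
  have mk : ∀ (Z : Closeds X), (e : CohB1.tensorMod (ClSub.idealMod (Scheme.IdealSheafData.vanishingIdeal Z)) L ≅
      Coh.structureModule X) → ∃ t : Γ(L, ⊤), ∀ z, (z ∉ (Z : Set X) → z ∈ CohB1.genLocus L (homOf t)) ∧
        (z ∈ (Z : Set X) → z ∉ CohB1.genLocus L (homOf t)) := fun Z e => by
    let u := TMul.val e.inv ⊤
    haveI : IsIso (homOf u) := by
      rw [show homOf u = e.inv from TMul.hom_ext_val ((val_homOf u ⊤).trans (res_self _ _ _))]
      infer_instance
    exact ⟨_, fun z => ⟨fun hz => mem_genLocus_idealIncl hL Z hz,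
      fun hz => notMem_genLocus_idealIncl hL _ u (by simpa using hz)⟩⟩
  obtain ⟨a, ha⟩ := mk _ eP
  obtain ⟨b, hb⟩ := mk _ eQ
  have haQ : Q ∈ CohB1.genLocus L (homOf a) := (ha Q).1 (fun h => hne h.symm)
  have hbQ : Q ∉ CohB1.genLocus L (homOf b) := (hb Q).2 rfl
  have hbP : P ∈ CohB1.genLocus L (homOf b) := (hb P).1 hne
  rw [← finrank_sec] at h1
  have hb0 : b ≠ 0 := fun h0' => by
    rw [h0', show homOf (0 : Γ(L, ⊤)) = 0 from TMul.hom_ext_val (by rw [val_homOf, map_zero]; rfl)] at hbP
    obtain ⟨D, g, hPD, hg⟩ := TMul.exists_isGen hL P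
    have hu := (TMul.mem_genLocus_iff_isUnit _ hg (c := (0 : Γ(X, D))) (show TMul.val (0 : Coh.structureModule X ⟶ L) D = _ from (zero_smul _ g).symm) hPD).mp hbP
    rw [map_zero] at hu
    exact not_isUnit_zero hu
  obtain ⟨c, hc⟩ := (finrank_le_one_iff.mp h1)
  obtain ⟨α, rfl⟩ := hc a
  obtain ⟨β, rfl⟩ := hc b
  have hβ : β ≠ 0 := fun h => hb0 (by rw [h, zero_smul])
  refine hbQ ?_
  have hαc : α • c = (α * β⁻¹) • (β • c) := by rw [smul_smul, mul_assoc, inv_mul_cancel₀ hβ, mul_one]
  rw [hαc] at haQ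
  obtain ⟨D, g, hQD, hg⟩ := TMul.exists_isGen hL Q
  obtain ⟨r, hr⟩ := (hg D le_rfl).2 (res L le_top (β • c))
  change r • res L le_rfl g = _ at hr
  rw [res_self] at hr
  have h1' : TMul.val (homOf ((α * β⁻¹) • (β • c))) D = (cst k X D (α * β⁻¹) * r) • g := by
    letI := secMod k L D
    rw [val_homOf]
    refine ((resL L (le_top : D ≤ ⊤)).map_smul (α * β⁻¹) (β • c)).trans ?_
    show cst k X D (α * β⁻¹) • res L (le_top : D ≤ ⊤) (β • c) = _
    rw [← hr]
    exact (mul_smul _ _ _).symm
  have hu := (TMul.mem_genLocus_iff_isUnit _ hg h1' hQD).mp haQ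
  rw [map_mul] at hu
  exact (TMul.mem_genLocus_iff_isUnit _ hg (by rw [val_homOf, hr]) hQD).mpr (isUnit_of_mul_isUnit_right hu)

end Groth.Agent.CurveOmega
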