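import Groth.Agent.CurveOmega.Omega
import Groth.Agent.CurveRR.Easy
import Groth.Agent.CurveRR.Euler
import Groth.Agent.OmegaLib.FiniteType

/-!
The sheaf of differentials of a smooth proper curve over an algebraically closed field: consumer form.
-/

set_option autoImplicit false
set_option backward.isDefEq.respectTransparency false
set_option linter.style.haveILetI false

universe u

open CategoryTheory CategoryTheory.Limits AlgebraicGeometry
open Groth.Agent.CohFinite

noncomputable section

namespace Groth.Agent.CurveOmega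

variable (k : Type u) [Field k] [IsAlgClosed k] (X : Scheme.{u}) [X.Over (Spec (CommRingCat.of k))]

/-- A regular proper curve over an algebraically closed field is smooth. -/
theorem smoothProper [IsIntegral X] [IsProper (X ↘ Spec (CommRingCat.of k))] (hdim : topologicalKrullDim X = 1)
    (hreg : ∀ x : X, IsRegularLocalRing (X.presheaf.stalk x)) :
    Curve.IsSmoothProperCurve k X (X ↘ Spec (CommRingCat.of k)) := by
  refine ⟨inferInstance, ?_, inferInstance, hdim⟩
  rw [← Scheme.Hom.smoothLocus_eq_top_iff]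
  exact TopologicalSpace.Opens.ext (Set.eq_univ_of_forall fun x =>
    (Groth.Agent.GeomProp.smoothLocus_iff_regular k X x).mpr (hreg x))

variable (hC : Curve.IsSmoothProperCurve k X (X ↘ Spec (CommRingCat.of k)))
include hC

theorem quasiSeparated : QuasiSeparated (X ↘ Spec (CommRingCat.of k)) := by
  haveI := hC.1
  infer_instance

theorem omega_facts : PicF.IsInvertible (Omega.sheaf (X ↘ Spec (CommRingCat.of k))) ∧
    CurveRR.h k (Omega.sheaf (X ↘ Spec (CommRingCat.of k))) 0 = Curv2.genus k X ∧
    Curv2.deg k X (Omega.sheaf (X ↘ Spec (CommRingCat.of k))) 1 = 2 * (Curv2.genus k X : ℤ) - 2 ∧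
    CurveRR.h k (Omega.sheaf (X ↘ Spec (CommRingCat.of k))) 1 = 1 := by
  haveI := hC.1
  haveI := hC.2.2.1
  haveI := quasiSeparated k X hC
  haveI := instNoeth hC
  have hd := OmegaLib.isUniversal_dOmega (X ↘ Spec (CommRingCat.of k))
  have hI := isInvertible hC hd
  obtain ⟨h1, h2⟩ := h0_deg hC hd
  refine ⟨hI, h1, h2, ?_⟩
  have h3 := h2
  rw [Curv2.deg, CurveRR.euler_eq hC.2.2.2.le,
    CurveRR.euler_structure hC.2.2.2.le (CurveRR.h0_structure k X)] at h3
  change ((CurveRR.h k _ 0 : ℤ) - CurveRR.h k _ 1) - _ = _ at h3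
  rw [h1] at h3
  push_cast at h3
  omega

theorem nonempty_iso_omega {L : X.Modules} (hL : PicF.IsInvertible L)
    (hdeg : Curv2.deg k X L 1 = 2 * (Curv2.genus k X : ℤ) - 2) (hh0 : Curv2.genus k X ≤ CurveRR.h k L 0) :
    Nonempty (L ≅ Omega.sheaf (X ↘ Spec (CommRingCat.of k))) := by
  haveI := hC.1
  haveI := hC.2.2.1
  haveI := quasiSeparated k X hC
  haveI := instNoeth hC
  exact nonempty_iso hC (OmegaLib.isUniversal_dOmega _) hL hdeg hh0

/-- For `g ≥ 2` there are no vector fields. -/
theorem hom_structure_eq_zero (hg : 2 ≤ Curv2.genus k X)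
    (θ : Omega.sheaf (X ↘ Spec (CommRingCat.of k)) ⟶ Coh.structureModule X) : θ = 0 := by
  haveI := hC.1
  haveI := hC.2.2.1
  by_contra h
  obtain ⟨hI, -, hdeg, -⟩ := omega_facts k X hC
  have := (CurveRR.deg_le_and_isIso (k := k) hC.2.2.2.le hI TMul.isInvertible_structureModule θ h).1
  rw [hdeg, CurveRR.deg_structure] at this
  omega

end Groth.Agent.CurveOmega
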