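import Groth.Agent.CurveOmega.BarVeryAmple
import Mathlib

/-!
An invertible module on a smooth proper curve is very ample iff it separates over an algebraic closure.
-/

set_option autoImplicit false
set_option backward.isDefEq.respectTransparency false
set_option backward.isDefEq.respectTransparency.types false
set_option linter.style.haveILetI false
set_option maxHeartbeats 1000000

universe u

open CategoryTheory CategoryTheory.Limits AlgebraicGeometry TopologicalSpace Opposite TensorProduct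
open Groth.Agent.CohFinite Groth.Agent.CurveRR
open Groth.Agent.QC (res resO res_res res_self res_smul resO_resO resO_self app_res)
open TMul (IsGen homOf val_homOf tm)
open ProjMor (ev)

noncomputable section

namespace Groth.Agent.CurveOmega

attribute [local instance] secMod

section Basis

variable {k : Type u} [Field k] {X : Scheme.{u}} [X.Over (Spec (CommRingCat.of k))] {L : X.Modules} {n : ℕ}

/-- A basis exhausts the pulled back linear forms. -/
theorem exists_linForms {f : X ⟶ CohB1.ProjSpace n k} (hf : f ≫ CohB1.ProjSpace.toSpec n k = X ↘ Spec (CommRingCat.of k))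
    (b : Module.Basis (Fin (n + 1)) k Γ(L, ⊤))
    (τ : (Scheme.Modules.pullback f).obj (Twist.twistProjSpace n k 1) ≅ L) (hτ : Coord f τ b)
    (t : Γ(CurveVA.O1 f, ⊤)) :
    ∃ c : Fin (n + 1) → k, t = ProjMor.pull1 f (ProjMor.linForms_mem n k c) :=
  ⟨fun i => b.repr (τ.hom.app ⊤ t) i, (ConcreteCategory.bijective_of_isIso (τ.hom.app ⊤)).1 (by
    conv_lhs => rw [← b.sum_repr (τ.hom.app ⊤ t)]
    rw [ProjMor.pull1_linForms, hf, map_sum]
    refine Finset.sum_congr rfl fun i _ => ?_
    refine Eq.trans ?_ (TMul.app_smul τ.hom _ _).symm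
    refine Eq.trans ?_ (congrArg (fun s : Γ(L, ⊤) =>
      ProjUP.toGlobal (X ↘ Spec (CommRingCat.of k)) (b.repr (τ.hom.app ⊤ t) i) • s) (hτ i)).symm
    show CurveRR.cst k X ⊤ (b.repr (τ.hom.app ⊤ t) i) • b i = _
    exact congrArg (fun c : Γ(X, ⊤) => c • b i) (resO_self (le_top : (⊤ : X.Opens) ≤ ⊤) _))⟩

variable [IsIntegral X] [IsProper (X ↘ Spec (CommRingCat.of k))]

/-- Two independent sections give positive degree. -/
theorem deg_pos_of_two (hdim : topologicalKrullDim X = 1) (h0 : h k (Coh.structureModule X) 0 = 1)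
    (hL : PicF.IsInvertible L) (h2 : 2 ≤ h k L 0) : 0 < Curv2.deg k X L 1 := by
  haveI := isNoetherian_of_proper k X
  obtain ⟨s, hs⟩ := exists_section (k := k) (L := L) (by omega)
  obtain ⟨hle, hiso⟩ := deg_le_and_isIso (k := k) hdim.le TMul.isInvertible_structureModule hL s hs
  rw [deg_structure] at hle hiso
  rcases hle.lt_or_eq with h | h
  · exact h
  · haveI := hiso h
    rw [h_eq_of_iso (asIso s) 0] at h0
    omega

end Basis

variable {k : Type u} [Field k] {X : Scheme.{u}} [X.Over (Spec (CommRingCat.of k))]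

/-- Base constants pull back to constants. -/
theorem app_cst_bar {W : X.Opens} (hW : IsAffineOpen W) (a : k) :
    ((barFst k X).app W).hom (cst k X W a) =
      cst (AlgebraicClosure k) (bar k X) (barFst k X ⁻¹ᵁ W) (algebraMap k (AlgebraicClosure k) a) := by
  letI : Algebra k Γ(X, W) := (CurveRR.cst k X W).toAlgebra
  obtain ⟨θ, -, hθ⟩ := exists_bar_sections (k := k) hW
  have h1 := hθ 1 (cst k X W a)
  rw [map_one, one_mul] at h1
  have h2 := hθ (algebraMap k (AlgebraicClosure k) a) 1
  rw [map_one, mul_one] at h2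
  rw [← h1, ← h2]
  refine congrArg θ ?_
  rw [Algebra.algebraMap_eq_smul_one, TensorProduct.smul_tmul, Algebra.smul_def, mul_one]
  rfl

variable [IsIntegral X] [IsProper (X ↘ Spec (CommRingCat.of k))] [Smooth (X ↘ Spec (CommRingCat.of k))]
  (hdim : topologicalKrullDim X = 1) (h0 : h k (Coh.structureModule X) 0 = 1) {L : X.Modules}
  (hL : PicF.IsInvertible L)

include hdim h0 hL in
/-- Very ample over `k` implies separating over the algebraic closure. -/
theorem sep_bar_of_veryAmple {n : ℕ} (i : X ⟶ CohB1.ProjSpace n k) [IsClosedImmersion i]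
    (hi : i ≫ CohB1.ProjSpace.toSpec n k = X ↘ (Spec (CommRingCat.of k)))
    (τ : (Scheme.Modules.pullback i).obj (Twist.twistProjSpace n k 1) ≅ L) :
    Sep (AlgebraicClosure k) (bar k X) ((Scheme.Modules.pullback (barFst k X)).obj L) := by
  classical
  have hC := smoothProper_bar k X hdim h0
  haveI := hC.1
  haveI := hC.2.1
  haveI := hC.2.2.1
  haveI : IsAffineHom (barFst k X) :=
    MorphismProperty.of_isPullback (P := @IsAffineHom) (isPullback_bar k X).flip inferInstance
  let s : Fin (n + 1) → Γ(L, ⊤) := fun l => τ.hom.app ⊤ (ProjUP.pullSec i (Twist.twistProjSpace n k 1) (ProjUP.coord n k l))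
  have hs : Coord i τ s := fun _ => rfl
  have hLb := PicLoc.isInvertible_pullback (barFst k X) hL
  have hgen : ProjUP.GeneratedBy _ fun l => barSec k X L (s l) :=
    ProjMor.generatedBy_of_mem_genLocus _ fun z => by
      obtain ⟨j, hj⟩ := PicPn.exists_mem_ch (k := k) (i (barFst k X z))
      refine ⟨j, ?_⟩
      rw [genLocus_barSec hL, ← preimage_ch hs j]
      exact hj
  obtain ⟨f, hf, σ, hσ⟩ := ProjMor.exists_projSpace (bar k X ↘ Spec (CommRingCat.of (AlgebraicClosure k))) hLb
    (fun l => barSec k X L (s l)) hgen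
  have hσ' : Coord f σ fun l => barSec k X L (s l) := hσ
  haveI := CurveVA.isProper_f f hf
  refine (veryAmple_iff_sep hC.2.2.2 hLb).mp ⟨n, f, ?_, hf, ⟨σ⟩⟩
  refine AmpleEmb.isClosedImmersion_of_charts f fun z => ?_
  obtain ⟨j, hj⟩ := PicPn.exists_mem_ch (k := k) (i (barFst k X z))
  let W := i ⁻¹ᵁ PicPn.ch (k := k) j
  have hW : IsAffineOpen W := (PicPn.isAffineOpen_ch j).preimage i
  have hpre : f ⁻¹ᵁ PicPn.ch (k := AlgebraicClosure k) j = barFst k X ⁻¹ᵁ W := by
    rw [preimage_ch hσ', genLocus_barSec hL, ← preimage_ch hs j]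
  refine ⟨j, hpre.ge hj, hpre ▸ hW.preimage (barFst k X), ?_⟩
  suffices ∀ (V : (bar k X).Opens) (_ : V = barFst k X ⁻¹ᵁ W) (h : V ≤ f ⁻¹ᵁ PicPn.ch (k := AlgebraicClosure k) j),
      Function.Surjective (ev f (PicPn.ch (k := AlgebraicClosure k) j) V h) from this _ hpre le_rfl
  rintro V rfl hV
  rw [ev_surjective_iff hf hV, eq_top_iff]
  have hWgen : Subring.closure (Set.range (cst k X W) ∪ Set.range fun l => ev i _ W le_rfl (PicPn.z j l)) = ⊤ := by
    rw [← ev_surjective_iff hi le_rfl]
    show Function.Surjective (i.appLE (PicPn.ch j) W le_rfl).hom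
    rw [Scheme.Hom.appLE_eq_app]
    exact Groth.Agent.KoszulLib.app_surjective i (U := ⟨_, PicPn.isAffineOpen_ch j⟩)
      (IsZariskiLocalAtTarget.restrict (P := @IsClosedImmersion) inferInstance _)
  have himg : ∀ b : Γ(X, W), ((barFst k X).app W).hom b ∈ Subring.closure
      (Set.range (cst (AlgebraicClosure k) (bar k X) (barFst k X ⁻¹ᵁ W)) ∪
        Set.range fun l => ev f _ (barFst k X ⁻¹ᵁ W) hV (PicPn.z j l)) := fun b => by
    have hb : b ∈ Subring.closure (Set.range (cst k X W) ∪ Set.range fun l => ev i _ W le_rfl (PicPn.z j l)) :=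
      hWgen ▸ Subring.mem_top b
    revert b
    show Subring.closure _ ≤ (Subring.closure _).comap ((barFst k X).app W).hom
    rw [Subring.closure_le]
    rintro b (⟨a, rfl⟩ | ⟨l, rfl⟩)
    · exact Subring.subset_closure (Or.inl ⟨_, (app_cst_bar hW a).symm⟩)
    · refine Subring.subset_closure (Or.inr ⟨l, ?_⟩)
      refine (isGen_res hσ' hV _ le_rfl).1 ?_
      show _ • res _ le_rfl _ = _ • res _ le_rfl _
      rw [res_self, ← res_eq_ratio hσ' hV l]
      exact res_barSec (res_eq_ratio hs (le_refl W) l)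
  intro z hz
  clear hz
  letI : Algebra k Γ(X, W) := (CurveRR.cst k X W).toAlgebra
  obtain ⟨θ, hθ, hθt⟩ := exists_bar_sections (k := k) hW
  obtain ⟨t, rfl⟩ := hθ.2 z
  induction t using TensorProduct.induction_on with
  | zero => rw [map_zero]; exact Subring.zero_mem _
  | tmul a b => rw [hθt]; exact Subring.mul_mem _ (Subring.subset_closure (Or.inl ⟨a, rfl⟩)) (himg b)
  | add x y hx hy => rw [map_add]; exact Subring.add_mem _ hx hy

include hdim h0 hL in
/-- Separating over the algebraic closure implies very ample over `k`. -/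
theorem veryAmple_of_sep_bar
    (hsep : Sep (AlgebraicClosure k) (bar k X) ((Scheme.Modules.pullback (barFst k X)).obj L)) :
    ∃ (n : ℕ) (i : X ⟶ CohB1.ProjSpace n k), IsClosedImmersion i ∧
      i ≫ CohB1.ProjSpace.toSpec n k = X ↘ (Spec (CommRingCat.of k)) ∧
      Nonempty ((Scheme.Modules.pullback i).obj (Twist.twistProjSpace n k 1) ≅ L) := by
  classical
  haveI := isNoetherian_of_proper k X
  have hC := smoothProper_bar k X hdim h0
  haveI := hC.1
  haveI := hC.2.1
  haveI := hC.2.2.1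
  haveI := isNoetherian_of_proper (AlgebraicClosure k) (bar k X)
  have hh : h (AlgebraicClosure k) ((Scheme.Modules.pullback (barFst k X)).obj L) 0 = h k L 0 :=
    h_bar k X (isCoh_of_inv hL).1 0
  have hLb := PicLoc.isInvertible_pullback (barFst k X) hL
  obtain ⟨P₀, -, hP₀⟩ := (isClosed_closure (s := ({genericPoint (bar k X)} : Set (bar k X)))).exists_closed_singleton
    ⟨genericPoint (bar k X), subset_closure rfl⟩
  have h2 : 2 ≤ h k L 0 := by have := hsep P₀ P₀ hP₀ hP₀; omega
  haveI := finite_proper k X _ (isCoh_of_inv hL) 0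
  haveI : Module.Finite k Γ(L, ⊤) := Module.Finite.equiv (secH0 (k := k) L).symm
  obtain ⟨n, hn⟩ : ∃ n, Module.finrank k Γ(L, ⊤) = n + 1 := ⟨h k L 0 - 1, by rw [finrank_sec]; omega⟩
  let b : Module.Basis (Fin (n + 1)) k Γ(L, ⊤) := (Module.finBasis k Γ(L, ⊤)).reindex (finCongr hn)
  have hli : LinearIndependent (AlgebraicClosure k) fun l => barSec k X L (b l) :=
    Fintype.linearIndependent_iff.mpr fun a ha => congrFun (barSec_independent hL (fun l => b l)
      (fun c hc => funext (Fintype.linearIndependent_iff.mp b.linearIndependent c hc)) a ha)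
  let bb : Module.Basis (Fin (n + 1)) (AlgebraicClosure k) Γ((Scheme.Modules.pullback (barFst k X)).obj L, ⊤) :=
    basisOfLinearIndependentOfCardEqFinrank hli (by rw [Fintype.card_fin, finrank_sec, hh, ← finrank_sec, hn])
  have hbb : ∀ l, bb l = barSec k X L (b l) := fun l => by
    simp [bb, coe_basisOfLinearIndependentOfCardEqFinrank]
  have hgenb : ProjUP.GeneratedBy _ fun l => bb l := CurveVA.generatedBy_of_basis bb fun z => by
    obtain ⟨m, i, -, -, ⟨σ⟩⟩ := exists_closedImmersion_of_sep hC.2.2.2 hLb hsep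
    obtain ⟨j, hj⟩ := PicPn.exists_mem_ch (k := AlgebraicClosure k) (i z)
    refine ⟨_, (preimage_ch (r := i) (τ := σ) (s := fun l => σ.hom.app ⊤
      (ProjUP.pullSec i (Twist.twistProjSpace m (AlgebraicClosure k) 1) (ProjUP.coord m (AlgebraicClosure k) l)))
      (fun _ => rfl) j).le hj⟩
  haveI : Surjective (barFst k X) := by
    haveI : Surjective (Spec.map (CommRingCat.ofHom (algebraMap k (AlgebraicClosure k)))) :=
      ⟨fun _ => ⟨IsLocalRing.closedPoint _, Subsingleton.elim _ _⟩⟩
    exact MorphismProperty.of_isPullback (P := @Surjective) (isPullback_bar k X).flip inferInstance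
  have hgen : ProjUP.GeneratedBy L fun l => b l := ProjMor.generatedBy_of_mem_genLocus _ fun x => by
    obtain ⟨z, rfl⟩ := (barFst k X).surjective x
    obtain ⟨l, hl⟩ := ProjMor.exists_mem_genLocus hLb _ hgenb z
    rw [hbb, genLocus_barSec hL] at hl
    exact ⟨l, hl⟩
  obtain ⟨f, hf, τ, hτ⟩ := ProjMor.exists_projSpace (X ↘ Spec (CommRingCat.of k)) hL (fun l => b l) hgen
  obtain ⟨g, hg, σ, hσ⟩ := ProjMor.exists_projSpace (bar k X ↘ Spec (CommRingCat.of (AlgebraicClosure k))) hLb
    (fun l => bb l) hgenb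
  have hσ' : Coord g σ fun l => barSec k X L (b l) := fun l => (hσ l).trans (hbb l)
  let τ' : CurveVA.O1 f ≅ L := τ
  let σ' : CurveVA.O1 g ≅ (Scheme.Modules.pullback (barFst k X)).obj L := σ
  have hdegf : 0 < Curv2.deg k X (CurveVA.O1 f) 1 :=
    deg_pos_of_two hdim h0 (CurveVA.isInvertible_O1 f) (by rw [h_eq_of_iso τ' 0]; exact h2)
  have hdegg : 0 < Curv2.deg (AlgebraicClosure k) (bar k X) (CurveVA.O1 g) 1 :=
    deg_pos_of_two hC.2.2.2 (h0_structure _ _) (CurveVA.isInvertible_O1 g) (by rw [h_eq_of_iso σ' 0, hh]; exact h2)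
  haveI hgci : IsClosedImmersion g := CurveVA.isClosedImmersion_of_fibre g hC.2.2.2 hg hdegg
    (exists_linForms hg bb σ hσ) fun hI ι hι hQ g0 hs => false_of_fibre' hC.2.2.2 (CurveVA.isInvertible_O1 g)
      (fun P Q hP hQ' => by
        rw [h_eq_of_iso (PicGrp.tensorModIso σ' (Iso.refl _)) 0, h_eq_of_iso σ' 0]
        exact hsep P Q hP hQ') hI ι hι hQ g0 hs
  haveI := CurveVA.isProper_f f hf
  haveI := CurveVA.isFinite_f f hdim hf hdegf
  refine ⟨n, f, AmpleEmb.isClosedImmersion_of_charts f fun x => ?_, hf, ⟨τ⟩⟩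
  obtain ⟨j, hj⟩ := PicPn.exists_mem_ch (k := k) (f x)
  let W := f ⁻¹ᵁ PicPn.ch (k := k) j
  have hW : IsAffineOpen W := (PicPn.isAffineOpen_ch j).preimage f
  refine ⟨j, hj, hW, ?_⟩
  show Function.Surjective (ev f (PicPn.ch (k := k) j) W le_rfl)
  rw [← RingHom.range_eq_top]
  refine bar_descend_gen hW _ (fun a => ⟨_, ev_const hf le_rfl a⟩) ?_
  have hpre : g ⁻¹ᵁ PicPn.ch (k := AlgebraicClosure k) j = barFst k X ⁻¹ᵁ W := by
    rw [preimage_ch hσ', genLocus_barSec hL, ← preimage_ch (s := fun l => b l) hτ j]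
  have hV : barFst k X ⁻¹ᵁ W ≤ g ⁻¹ᵁ PicPn.ch (k := AlgebraicClosure k) j := hpre.ge
  have hsurj : Function.Surjective (ev g (PicPn.ch (k := AlgebraicClosure k) j) (barFst k X ⁻¹ᵁ W) hV) := by
    suffices ∀ (V : (bar k X).Opens) (_ : V = g ⁻¹ᵁ PicPn.ch (k := AlgebraicClosure k) j)
        (h : V ≤ g ⁻¹ᵁ PicPn.ch (k := AlgebraicClosure k) j), Function.Surjective (ev g _ V h) from this _ hpre.symm hV
    rintro V rfl h
    show Function.Surjective (g.appLE (PicPn.ch j) _ le_rfl).hom
    rw [Scheme.Hom.appLE_eq_app]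
    exact Groth.Agent.KoszulLib.app_surjective g (U := ⟨_, PicPn.isAffineOpen_ch j⟩)
      (IsZariskiLocalAtTarget.restrict (P := @IsClosedImmersion) inferInstance _)
  rw [ev_surjective_iff hg hV] at hsurj
  rw [eq_top_iff, ← hsurj]
  refine Subring.closure_mono (Set.union_subset_union_right _ ?_)
  rintro _ ⟨l, rfl⟩
  refine ⟨ev f _ W le_rfl (PicPn.z j l), ⟨_, rfl⟩, ?_⟩
  refine ((isGen_res hσ' hV _ le_rfl).1 ?_).symm
  show _ • res _ le_rfl _ = _ • res _ le_rfl _
  rw [res_self, ← res_eq_ratio hσ' hV l]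
  exact res_barSec (res_eq_ratio (s := fun l => b l) hτ (le_refl W) l)

end Groth.Agent.CurveOmega
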