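import Groth.Agent.CurveOmega.General
import Groth.Agent.CurveRR.Zero
import Mathlib

/-!
Functions on affine opens after extension of scalars to an algebraic closure.
-/

set_option autoImplicit false
set_option backward.isDefEq.respectTransparency false
set_option backward.isDefEq.respectTransparency.types false
set_option linter.style.haveILetI false

universe u

open CategoryTheory CategoryTheory.Limits AlgebraicGeometry TopologicalSpace Opposite TensorProduct
open Groth.Agent.QC (resO resO_resO)

noncomputable section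

namespace Groth.Agent.CurveOmega

variable {k : Type u} [Field k] {X : Scheme.{u}} [X.Over (Spec (CommRingCat.of k))]

/-- The functions on the preimage of an affine open are `K ⊗ Γ(X, W)`. -/
theorem exists_bar_sections {W : X.Opens} (hW : IsAffineOpen W) :
    letI : Algebra k Γ(X, W) := (CurveRR.cst k X W).toAlgebra
    ∃ θ : AlgebraicClosure k ⊗[k] Γ(X, W) →+* Γ(bar k X, barFst k X ⁻¹ᵁ W), Function.Bijective θ ∧
      ∀ a b, θ (a ⊗ₜ b) = CurveRR.cst (AlgebraicClosure k) (bar k X) (barFst k X ⁻¹ᵁ W) a *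
        ((barFst k X).app W).hom b := by
  letI : Algebra k Γ(X, W) := (CurveRR.cst k X W).toAlgebra
  let K := AlgebraicClosure k
  let p := X ↘ Spec (CommRingCat.of k)
  let π := bar k X ↘ Spec (CommRingCat.of K)
  let σ := Spec.map (CommRingCat.ofHom (algebraMap k K))
  have H : IsPullback (barFst k X) π p σ := isPullback_bar k X
  have e1 : (⊤ : (Spec (CommRingCat.of K)).Opens) ≤ σ ⁻¹ᵁ ⊤ := le_of_eq (by simp)
  have e2 : W ≤ p ⁻¹ᵁ ⊤ := by simp
  have hiso := isIso_pushoutSection_of_isAffineOpen H (US := ⊤) (UT := ⊤) (UX := W) (UY := barFst k X ⁻¹ᵁ W)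
    e1 e2 (by simp) (isAffineOpen_top _) (isAffineOpen_top _) hW
  have hpo := (isIso_pushoutSection_iff ..).mp hiso
  -- replace the rings of global functions of the points by the fields
  let ek := Scheme.ΓSpecIso (CommRingCat.of k)
  let eK := Scheme.ΓSpecIso (CommRingCat.of K)
  have hσ : σ.appLE ⊤ ⊤ e1 ≫ eK.hom = ek.hom ≫ CommRingCat.ofHom (algebraMap k K) := by
    simp [Scheme.Hom.appLE, σ]
    exact Scheme.ΓSpecIso_naturality (CommRingCat.ofHom (algebraMap k K))
  have hpo' : IsPushout (CommRingCat.ofHom (algebraMap k K)) (CommRingCat.ofHom (CurveRR.cst k X W))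
      (CommRingCat.ofHom (CurveRR.cst K (bar k X) (barFst k X ⁻¹ᵁ W))) ((barFst k X).app W) := by
    refine hpo.flip.of_iso ek eK (Iso.refl _) (Iso.refl _) hσ ?_ ?_ ?_
    · rw [Iso.refl_hom, Category.comp_id]
      ext a
      show (p.appLE ⊤ W e2).hom a = resO X le_top (p.appTop.hom ((Scheme.ΓSpecIso _).inv.hom (ek.hom.hom a)))
      rw [show (Scheme.ΓSpecIso (CommRingCat.of k)).inv.hom (ek.hom.hom a) = a from
        ConcreteCategory.congr_hom ek.hom_inv_id a]
      rfl
    · rw [Iso.refl_hom, Category.comp_id]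
      ext a
      show (π.appLE ⊤ (barFst k X ⁻¹ᵁ W) _).hom a =
        resO (bar k X) le_top (π.appTop.hom ((Scheme.ΓSpecIso _).inv.hom (eK.hom.hom a)))
      rw [show (Scheme.ΓSpecIso (CommRingCat.of K)).inv.hom (eK.hom.hom a) = a from
        ConcreteCategory.congr_hom eK.hom_inv_id a]
      rfl
    · simp [Scheme.Hom.appLE_eq_app]
  have hte := CommRingCat.isPushout_tensorProduct k K Γ(X, W)
  refine ⟨(hte.isoIsPushout _ _ hpo').hom.hom,
    ConcreteCategory.bijective_of_isIso (hte.isoIsPushout _ _ hpo').hom, fun a b => ?_⟩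
  have h1 := congr($(IsPushout.inl_isoIsPushout_hom _ _ hte hpo') a)
  have h2 := congr($(IsPushout.inr_isoIsPushout_hom _ _ hte hpo') b)
  simp only [CommRingCat.hom_comp, RingHom.comp_apply] at h1 h2
  refine Eq.trans ?_ (congrArg₂ (· * ·) h1 h2)
  rw [← map_mul]
  congr 1
  simp

/-- Linear independence survives extension of scalars. -/
theorem bar_independent {W : X.Opens} (hW : IsAffineOpen W) {ι : Type*} [Fintype ι] (c : ι → Γ(X, W))
    (hc : ∀ a : ι → k, ∑ i, CurveRR.cst k X W (a i) * c i = 0 → a = 0) (a : ι → AlgebraicClosure k)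
    (ha : ∑ i, CurveRR.cst (AlgebraicClosure k) (bar k X) (barFst k X ⁻¹ᵁ W) (a i) *
      ((barFst k X).app W).hom (c i) = 0) : a = 0 := by
  classical
  letI : Algebra k Γ(X, W) := (CurveRR.cst k X W).toAlgebra
  obtain ⟨θ, hθ, hθt⟩ := exists_bar_sections (k := k) hW
  let f : (ι → k) →ₗ[k] Γ(X, W) := Fintype.linearCombination k c
  have hf : Function.Injective f := LinearMap.ker_eq_bot.mp (eq_bot_iff.mpr fun b hb => hc b (by
    simpa [f, Fintype.linearCombination_apply, Algebra.smul_def, RingHom.algebraMap_toAlgebra] using hb))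
  let e := TensorProduct.piScalarRight k k (AlgebraicClosure k) ι
  have h1 : f.lTensor (AlgebraicClosure k) (∑ i, a i ⊗ₜ Pi.single i (1 : k)) = 0 := by
    refine hθ.1 ?_
    rw [map_zero, ← ha, map_sum, map_sum]
    refine Finset.sum_congr rfl fun i _ => ?_
    rw [LinearMap.lTensor_tmul, hθt]
    simp [f, Fintype.linearCombination_apply_single]
  have h2 := Module.Flat.lTensor_preserves_injective_linearMap (M := AlgebraicClosure k) f hf (h1.trans (map_zero _).symm)
  have h3 := congrArg e h2
  funext j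
  have := congrFun h3 j
  simpa [e, map_sum, TensorProduct.piScalarRight_apply, Pi.single_apply] using this

/-- A subalgebra generating after extension of scalars generates. -/
theorem bar_descend_gen {W : X.Opens} (hW : IsAffineOpen W) (A : Subring Γ(X, W))
    (hA : ∀ a, CurveRR.cst k X W a ∈ A)
    (h : Subring.closure (Set.range (CurveRR.cst (AlgebraicClosure k) (bar k X) (barFst k X ⁻¹ᵁ W)) ∪
      ((barFst k X).app W).hom '' (A : Set Γ(X, W))) = ⊤) : A = ⊤ := by
  letI : Algebra k Γ(X, W) := (CurveRR.cst k X W).toAlgebra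
  obtain ⟨θ, hθ, hθt⟩ := exists_bar_sections (k := k) hW
  let A' : Subalgebra k Γ(X, W) := { A with algebraMap_mem' := fun a => hA a }
  let F := Algebra.TensorProduct.map (AlgHom.id k (AlgebraicClosure k)) A'.val
  have hF : Function.Surjective F := fun t => by
    have hle : Subring.closure (Set.range (CurveRR.cst (AlgebraicClosure k) (bar k X) (barFst k X ⁻¹ᵁ W)) ∪
        ((barFst k X).app W).hom '' (A : Set Γ(X, W))) ≤ (θ.comp F.toRingHom).range := by
      rw [Subring.closure_le]
      rintro z (⟨a, rfl⟩ | ⟨b, hb, rfl⟩)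
      · refine ⟨a ⊗ₜ 1, ?_⟩
        show θ (F (a ⊗ₜ 1)) = _
        rw [Algebra.TensorProduct.map_tmul, hθt]
        simp
      · refine ⟨1 ⊗ₜ (⟨b, hb⟩ : A'), ?_⟩
        show θ (F (1 ⊗ₜ (⟨b, hb⟩ : A'))) = _
        rw [Algebra.TensorProduct.map_tmul, hθt]
        simp
    rw [h] at hle
    obtain ⟨s, hs⟩ := hle (Subring.mem_top (θ t))
    exact ⟨s, hθ.1 hs⟩
  have hsurj : Function.Surjective A'.val.toLinearMap :=
    (Module.FaithfullyFlat.lTensor_surjective_iff_surjective k (AlgebraicClosure k) _).mp (by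
      intro t
      obtain ⟨s, rfl⟩ := hF t
      exact ⟨s, rfl⟩)
  exact eq_top_iff.mpr fun z _ => by obtain ⟨⟨y, hy⟩, rfl⟩ := hsurj z; exact hy

end Groth.Agent.CurveOmega
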