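import Groth.Agent.CurveOmega.RatPt
import Groth.Agent.CurveFF.Basic
import Groth.Agent.CurveVA.Criterion
import Mathlib

/-!
A very ample module separates points and tangent vectors.
-/

set_option autoImplicit false
set_option backward.isDefEq.respectTransparency false
set_option linter.style.haveILetI false
set_option maxHeartbeats 1000000

universe u

open CategoryTheory CategoryTheory.Limits AlgebraicGeometry TopologicalSpace Opposite
open Groth.Agent.CohFinite Groth.Agent.CurveRR
open Groth.Agent.QC (res resO res_self res_res app_res)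
open TMul (IsGen homOf val_homOf tm)

noncomputable section

namespace Groth.Agent.CurveOmega

section Gen

variable {X : Scheme.{u}}

/-- A map of invertible modules sends sections vanishing at a point to such. -/
theorem notMem_genLocus_app {A B : X.Modules} (hA : PicF.IsInvertible A) (hB : PicF.IsInvertible B) (φ : A ⟶ B)
    (u : Γ(A, ⊤)) {x : X} (hx : x ∉ CohB1.genLocus A (homOf u)) :
    x ∉ CohB1.genLocus B (homOf (φ.app ⊤ u)) := by
  obtain ⟨D, e, hxD, he⟩ := TMul.exists_isGen hA x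
  obtain ⟨E, h, hxE, hh⟩ := TMul.exists_isGen hB x
  obtain ⟨c, hc⟩ := (he (D ⊓ E) inf_le_left).2 (res A le_top u)
  change c • res A inf_le_left e = _ at hc
  obtain ⟨d, hd⟩ := (hh (D ⊓ E) inf_le_right).2 (φ.app _ (res A inf_le_left e))
  change d • res B inf_le_right h = _ at hd
  have h2 : res B le_top (φ.app ⊤ u) = (c * d) • res B (inf_le_right : D ⊓ E ≤ E) h := by
    rw [app_res, ← hc, TMul.app_smul, ← hd, mul_smul]
  intro hmem
  have h3 := (TMul.mem_genLocus_iff_isUnit _ (hh.res inf_le_right) (c := c * d)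
    (by rw [val_homOf]; exact h2) (show x ∈ D ⊓ E from ⟨hxD, hxE⟩)).mp hmem
  rw [map_mul] at h3
  exact hx ((TMul.mem_genLocus_iff_isUnit _ (he.res inf_le_left) (c := c)
    (by rw [val_homOf]; exact hc.symm) (show x ∈ D ⊓ E from ⟨hxD, hxE⟩)).mpr (isUnit_of_mul_isUnit_left h3))

/-- A section of `I_P ⊗ L` vanishing at `P` vanishes twice at `P` as a section of `L`. -/
theorem coeff_mem_sq {L : X.Modules} (hL : PicF.IsInvertible L) {P : X} (hP : IsClosed ({P} : Set X))
    (hIL : PicF.IsInvertible (CohB1.tensorMod (ClSub.idealMod (Scheme.IdealSheafData.vanishingIdeal ⟨{P}, hP⟩)) L))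
    (u : Γ(CohB1.tensorMod (ClSub.idealMod (Scheme.IdealSheafData.vanishingIdeal ⟨{P}, hP⟩)) L, ⊤))
    (hu : P ∉ CohB1.genLocus _ (homOf u)) {W : X.Opens} {g : Γ(L, W)} (hg : IsGen g) (hPW : P ∈ W) {c : Γ(X, W)}
    (hc : res L le_top ((idealIncl (Scheme.IdealSheafData.vanishingIdeal ⟨{P}, hP⟩) L).app ⊤ u) = c • g) :
    (X.presheaf.germ W P hPW).hom c ∈ IsLocalRing.maximalIdeal (X.presheaf.stalk P) ^ 2 := by
  let I := Scheme.IdealSheafData.vanishingIdeal ⟨{P}, hP⟩
  obtain ⟨D, e, hPD, he⟩ := TMul.exists_isGen hIL P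
  obtain ⟨V, hV, hPV, hVD⟩ := exists_isAffineOpen_mem_and_subset (x := P) (U := D ⊓ W) ⟨hPD, hPW⟩
  have hVD' : V ≤ D := fun x hx => (hVD hx).1
  have hVW : V ≤ W := fun x hx => (hVD hx).2
  obtain ⟨b, hb⟩ := (he V hVD').2 (res _ le_top u)
  change b • res _ hVD' e = _ at hb
  obtain ⟨a, ha⟩ := (TMul.tm_bijective (M := ClSub.idealMod I) (hg.res hVW) V le_rfl).2 (res _ hVD' e)
  change tm a (res L le_rfl (res L hVW g)) = _ at ha
  rw [res_self] at ha
  let ca : Γ(X, V) := (ClSub.idealModι I).app V a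
  have key : (resO X hVW c) • res L hVW g = (b * ca) • res L hVW g := by
    rw [← Groth.Agent.QC.res_smul, ← hc, res_res, app_res, ← hb, TMul.app_smul, ← ha, idealIncl_tm, mul_smul]
  have hkey : resO X hVW c = b * ca := by
    refine ((hg.res hVW) V le_rfl).1 ?_
    show resO X hVW c • res L le_rfl (res L hVW g) = (b * ca) • res L le_rfl (res L hVW g)
    rw [res_self, key]
  have hb' : (X.presheaf.germ V P hPV).hom b ∈ IsLocalRing.maximalIdeal (X.presheaf.stalk P) := fun hub =>
    hu ((TMul.mem_genLocus_iff_isUnit _ (he.res hVD') (c := b) (by rw [val_homOf]; exact hb.symm) hPV).mpr hub)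
  have hca : (X.presheaf.germ V P hPV).hom ca ∈ IsLocalRing.maximalIdeal (X.presheaf.stalk P) := fun hua => by
    have hPS : P ∈ I.support := by
      show P ∈ (I.support : Set X)
      simp [I]
    rw [Scheme.IdealSheafData.mem_support_iff_of_mem (U := ⟨V, hV⟩) hPV, Scheme.mem_zeroLocus_iff] at hPS
    exact hPS _ ((Groth.Agent.QC.mem_range_idealModι_affine I ⟨V, hV⟩ ca).mp ⟨a, rfl⟩)
      ((X.mem_basicOpen ca P hPV).mpr hua)
  have := Ideal.mul_mem_mul hb' hca
  rw [← pow_two, ← map_mul, ← hkey] at this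
  rwa [show (X.presheaf.germ V P hPV).hom (resO X hVW c) = (X.presheaf.germ W P hPW).hom c from
    X.presheaf.germ_res_apply (homOfLE hVW) P hPV c] at this

end Gen

variable {k : Type u} [Field k] {n : ℕ}

/-- A linear form dehomogenising to `z_j - a`. -/
theorem shift_mem (l j : Fin (n + 1)) (a : k) :
    (MvPolynomial.X j - MvPolynomial.C a * MvPolynomial.X l : MvPolynomial (Fin (n + 1)) k) ∈
      CohB1.polyGrading n k 1 :=
  (MvPolynomial.isHomogeneous_X k j).sub (by
    simpa using (MvPolynomial.isHomogeneous_C (Fin (n + 1)) a).mul (MvPolynomial.isHomogeneous_X k l))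

theorem deh_shift (l j : Fin (n + 1)) (a : k) :
    GrT.deh (CohB1.polyGrading n k) (PicPn.X_mem l) (MvPolynomial.X j - MvPolynomial.C a * MvPolynomial.X l) =
      PicPn.z l j - GrT.deh (CohB1.polyGrading n k) (PicPn.X_mem l) (MvPolynomial.C a) := by
  rw [map_sub, map_mul, GrT.deh_self, mul_one]

variable [IsAlgClosed k] {X : Scheme.{u}}

/-- Closed points of a closed subscheme of projective space are cut out by shifted coordinates. -/
theorem exists_point_gens (i : X ⟶ CohB1.ProjSpace n k) [IsClosedImmersion i] (l : Fin (n + 1))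
    (M : Ideal Γ(X, i ⁻¹ᵁ PicPn.ch l)) [M.IsMaximal] :
    ∃ c : Fin (n + 1) → k, M = Ideal.span (Set.range fun j => (i.app (PicPn.ch l)).hom
      (GrT.deh (CohB1.polyGrading n k) (PicPn.X_mem l) (MvPolynomial.X j - MvPolynomial.C (c j) * MvPolynomial.X l))) := by
  classical
  obtain ⟨e, hez, heC⟩ := PicPn.exists_chart (k := k) l
  let B := Γ(X, i ⁻¹ᵁ PicPn.ch l)
  have hs : Function.Surjective (i.app (PicPn.ch l)).hom :=
    Groth.Agent.KoszulLib.app_surjective i (U := ⟨_, PicPn.isAffineOpen_ch l⟩)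
      (IsZariskiLocalAtTarget.restrict (P := @IsClosedImmersion) inferInstance _)
  let Φ : MvPolynomial {j : Fin (n + 1) // j ≠ l} k →+* B := (i.app (PicPn.ch l)).hom.comp e.symm.toRingHom
  have hΦ : Function.Surjective Φ := hs.comp e.symm.surjective
  let γ : k →+* B := Φ.comp MvPolynomial.C
  have hγ : ∀ a, γ a = (i.app (PicPn.ch l)).hom (GrT.deh (CohB1.polyGrading n k) (PicPn.X_mem l) (MvPolynomial.C a)) :=
    fun a => congrArg _ (e.symm_apply_eq.mpr (heC a).symm)
  letI : Algebra k B := γ.toAlgebra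
  let Φa : MvPolynomial {j : Fin (n + 1) // j ≠ l} k →ₐ[k] B := { Φ with commutes' := fun a => rfl }
  haveI : Algebra.FiniteType k B :=
    (inferInstance : Algebra.FiniteType k (MvPolynomial {j : Fin (n + 1) // j ≠ l} k)).of_surjective Φa hΦ
  letI : Field (B ⧸ M) := Ideal.Quotient.field M
  haveI : Algebra.FiniteType k (B ⧸ M) :=
    (inferInstance : Algebra.FiniteType k B).of_surjective (Ideal.Quotient.mkₐ k M) (Ideal.Quotient.mkₐ_surjective k M)
  haveI : Module.Finite k (B ⧸ M) := finite_of_finite_type_of_isJacobsonRing k (B ⧸ M)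
  have hk : Function.Surjective (algebraMap k (B ⧸ M)) := IsAlgClosed.algebraMap_bijective_of_isIntegral.2
  choose c hc using fun j => hk (Ideal.Quotient.mk M ((i.app (PicPn.ch l)).hom (PicPn.z l j)))
  refine ⟨c, ?_⟩
  set J := Ideal.span (Set.range fun j => (i.app (PicPn.ch l)).hom
      (GrT.deh (CohB1.polyGrading n k) (PicPn.X_mem l) (MvPolynomial.X j - MvPolynomial.C (c j) * MvPolynomial.X l)))
    with hJ
  have hgen : ∀ j, (i.app (PicPn.ch l)).hom (GrT.deh (CohB1.polyGrading n k) (PicPn.X_mem l)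
      (MvPolynomial.X j - MvPolynomial.C (c j) * MvPolynomial.X l)) =
      (i.app (PicPn.ch l)).hom (PicPn.z l j) - γ (c j) := fun j => by
    rw [deh_shift, map_sub, hγ]
  have hJM : J ≤ M := by
    rw [hJ, Ideal.span_le]
    rintro _ ⟨j, rfl⟩
    rw [SetLike.mem_coe]
    beta_reduce
    rw [hgen, ← Ideal.Quotient.eq]
    exact (hc j).symm
  have hdense : ∀ b : B, ∃ a : k, b - γ a ∈ J := by
    intro b
    obtain ⟨p, rfl⟩ := hΦ b
    induction p using MvPolynomial.induction_on with
    | C a => exact ⟨a, by simp [γ]⟩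
    | add p q hp hq =>
      obtain ⟨a, ha⟩ := hp
      obtain ⟨a', ha'⟩ := hq
      exact ⟨a + a', by rw [map_add, map_add, add_sub_add_comm]; exact J.add_mem ha ha'⟩
    | mul_X p j hp =>
      obtain ⟨a, ha⟩ := hp
      have hz : Φ (MvPolynomial.X j) = (i.app (PicPn.ch l)).hom (PicPn.z l j.1) :=
        congrArg _ (e.symm_apply_eq.mpr (hez j.1 j.2).symm)
      refine ⟨a * c j.1, ?_⟩
      rw [map_mul, map_mul, show Φ p * Φ (MvPolynomial.X j) - γ a * γ (c j.1) =
        (Φ p - γ a) * Φ (MvPolynomial.X j) + γ a * (Φ (MvPolynomial.X j) - γ (c j.1)) by ring]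
      refine J.add_mem (J.mul_mem_right _ ha) (J.mul_mem_left _ ?_)
      rw [hz, ← hgen]
      exact Ideal.subset_span ⟨j.1, rfl⟩
  refine le_antisymm (fun b hb => ?_) hJM
  obtain ⟨a, ha⟩ := hdense b
  by_cases ha0 : a = 0
  · simpa [ha0] using ha
  · exfalso
    have : γ a ∈ M := by simpa using M.sub_mem hb (hJM ha)
    exact Ideal.IsMaximal.ne_top inferInstance (M.eq_top_of_isUnit_mem this ((IsUnit.mk0 a ha0).map γ))

variable [X.Over (Spec (CommRingCat.of k))] [IsIntegral X] [IsProper (X ↘ Spec (CommRingCat.of k))]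

/-- A very ample module separates points and tangent vectors. -/
theorem sep_of_closedImmersion [Smooth (X ↘ Spec (CommRingCat.of k))] (hdim : topologicalKrullDim X = 1)
    (i : X ⟶ CohB1.ProjSpace n k) [IsClosedImmersion i] {P Q : X} (hP : IsClosed ({P} : Set X))
    (hQ : IsClosed ({Q} : Set X)) :
    h k (CohB1.tensorMod (CurveVA.O1 i) (CohB1.tensorMod
      (ClSub.idealMod (Scheme.IdealSheafData.vanishingIdeal ⟨{P}, hP⟩))
      (ClSub.idealMod (Scheme.IdealSheafData.vanishingIdeal ⟨{Q}, hQ⟩)))) 0 + 2 = h k (CurveVA.O1 i) 0 := by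
  classical
  haveI := isNoetherian_of_proper k X
  have hC : Curve.IsSmoothProperCurve k X (X ↘ Spec (CommRingCat.of k)) :=
    ⟨inferInstance, inferInstance, inferInstance, hdim⟩
  let L := CurveVA.O1 i
  have hL : PicF.IsInvertible L := CurveVA.isInvertible_O1 i
  have hIP := isInvertible_pointIdeal hdim.le hP (genericPoint_ne_of_closed (k := k) hdim hP)
    (SmLocalST.isRegularLocalRing_stalk_of_smooth_field (X ↘ Spec (CommRingCat.of k)) _)
  have hIL := TMul.isInvertible_tensorMod hIP hL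
  obtain ⟨lP, hlP⟩ := PicPn.exists_mem_ch (k := k) (i P)
  have hgd := ProjMor.genDegOne_projSpace n k
  have hPgen : ∃ t : Γ(L, ⊤), P ∈ CohB1.genLocus L (homOf t) :=
    ⟨ProjMor.pull1 i (PicPn.X_mem (k := k) lP), by rw [ProjMor.genLocus_pull1 hgd i]; exact hlP⟩
  -- a section generating `I_P ⊗ L` at `Q`
  obtain ⟨t, htP, htQ⟩ : ∃ t : Γ(L, ⊤), P ∉ CohB1.genLocus L (homOf t) ∧
      ∀ u, (idealIncl (Scheme.IdealSheafData.vanishingIdeal ⟨{P}, hP⟩) L).app ⊤ u = t →
        Q ∈ CohB1.genLocus _ (homOf u) := by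
    obtain ⟨m, hm⟩ := PicPn.exists_mem_ch (k := k) (i Q)
    by_cases hPm : i P ∈ PicPn.ch (k := k) m
    · let W := i ⁻¹ᵁ PicPn.ch (k := k) m
      have hW : IsAffineOpen W := (PicPn.isAffineOpen_ch m).preimage i
      haveI := hW.primeIdealOf_isMaximal_of_isClosed ⟨P, hPm⟩ hP
      obtain ⟨c, hc⟩ := exists_point_gens i m (hW.primeIdealOf ⟨P, hPm⟩).asIdeal
      let w : Fin (n + 1) → Γ(X, W) := fun j => (i.app (PicPn.ch m)).hom
        (GrT.deh (CohB1.polyGrading n k) (PicPn.X_mem m) (MvPolynomial.X j - MvPolynomial.C (c j) * MvPolynomial.X m))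
      let g : Γ(L, W) := res L le_top (ProjMor.pull1 i (PicPn.X_mem (k := k) m))
      have hg : IsGen g := ProjMor.isGen_pull1 hgd i (PicPn.X_mem m) le_rfl
      have hw : ∀ j, res L le_top (ProjMor.pull1 i (shift_mem m j (c j))) = w j • g := fun j => by
        rw [ProjMor.res_pull1 i (PicPn.X_mem (k := k) m) (shift_mem m j (c j)) (le_refl W)]
        refine congrArg (fun r : Γ(X, W) => r • g) ?_
        show (i.appLE (PicPn.ch m) W le_rfl).hom _ = _
        rw [Scheme.Hom.appLE_eq_app]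
      letI := X.presheaf.algebra_section_stalk (⟨P, hPm⟩ : W)
      haveI := hW.isLocalization_stalk ⟨P, hPm⟩
      have hmP : IsLocalRing.maximalIdeal (X.presheaf.stalk P) =
          Ideal.map (X.presheaf.germ W P hPm).hom (Ideal.span (Set.range w)) := by
        rw [← hc]
        exact (IsLocalization.AtPrime.map_eq_maximalIdeal (hW.primeIdealOf ⟨P, hPm⟩).asIdeal (X.presheaf.stalk P)).symm
      have htP : ∀ j, P ∉ CohB1.genLocus L (homOf (ProjMor.pull1 i (shift_mem m j (c j)))) := fun j hj => by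
        have h1 := (TMul.mem_genLocus_iff_isUnit _ hg (c := w j) (by rw [val_homOf]; exact hw j) hPm).mp hj
        exact (IsLocalRing.mem_maximalIdeal _).mp (hmP ▸ Ideal.mem_map_of_mem _ (Ideal.subset_span ⟨j, rfl⟩)) h1
      by_cases hPQ : Q = P
      · subst hPQ
        obtain ⟨j, hj⟩ : ∃ j, (X.presheaf.germ W Q hPm).hom (w j) ∉ IsLocalRing.maximalIdeal (X.presheaf.stalk Q) ^ 2 := by
          by_contra! hall
          haveI := CurveFF.stalk_dvr hC hP
          have hle : IsLocalRing.maximalIdeal (X.presheaf.stalk Q) ≤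
              IsLocalRing.maximalIdeal (X.presheaf.stalk Q) ^ 2 := by
            conv_lhs => rw [hmP]
            rw [Ideal.map_span, Ideal.span_le]
            rintro _ ⟨_, ⟨j, rfl⟩, rfl⟩
            exact hall j
          refine IsDiscreteValuationRing.not_a_field (X.presheaf.stalk Q) ?_
          refine Submodule.eq_bot_of_le_smul_of_le_jacobson_bot (IsLocalRing.maximalIdeal (X.presheaf.stalk Q)) _
            (IsNoetherian.noetherian _) ?_ (IsLocalRing.maximalIdeal_le_jacobson _)
          rw [smul_eq_mul, ← pow_two]; exact hle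
        refine ⟨_, htP j, fun u hu => ?_⟩
        by_contra hu'
        exact hj (coeff_mem_sq hL hP hIL u hu' hg hPm (by rw [hu]; exact hw j))
      · obtain ⟨j, hj⟩ : ∃ j, Q ∈ CohB1.genLocus L (homOf (ProjMor.pull1 i (shift_mem m j (c j)))) := by
          by_contra! hall
          haveI hmax := hW.primeIdealOf_isMaximal_of_isClosed ⟨P, hPm⟩ hP
          have hle : (hW.primeIdealOf ⟨P, hPm⟩).asIdeal ≤ (hW.primeIdealOf ⟨Q, hm⟩).asIdeal := by
            rw [hc, Ideal.span_le]
            rintro _ ⟨j, rfl⟩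
            rw [IsAffineOpen.primeIdealOf_eq_map_closedPoint]
            show (X.presheaf.germ W Q hm).hom (w j) ∈ IsLocalRing.maximalIdeal (X.presheaf.stalk Q)
            exact fun hu => hall j
              ((TMul.mem_genLocus_iff_isUnit _ hg (c := w j) (by rw [val_homOf]; exact hw j) hm).mpr hu)
          have heq := PrimeSpectrum.ext (hmax.eq_of_le (hW.primeIdealOf ⟨Q, hm⟩).isPrime.ne_top hle)
          have := congrArg hW.fromSpec heq
          rw [hW.fromSpec_primeIdealOf, hW.fromSpec_primeIdealOf] at this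
          exact hPQ this.symm
        refine ⟨_, htP j, fun u hu => ?_⟩
        by_contra hu'
        exact notMem_genLocus_app hIL hL (idealIncl _ L) u hu' (by rw [hu]; exact hj)
    · refine ⟨ProjMor.pull1 i (PicPn.X_mem (k := k) m), ?_, fun u hu => ?_⟩
      · rw [ProjMor.genLocus_pull1 hgd i]; exact hPm
      · by_contra hu'
        refine notMem_genLocus_app hIL hL (idealIncl _ L) u hu' ?_
        rw [hu, ProjMor.genLocus_pull1 hgd i]; exact hm
  obtain ⟨u, hu⟩ := mem_range_idealIncl hL ⟨{P}, hP⟩ t fun z hz => by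
    rw [Set.mem_singleton_iff.mp hz]; exact htP
  have h1 : h k (CohB1.tensorMod (ClSub.idealMod (Scheme.IdealSheafData.vanishingIdeal ⟨{P}, hP⟩)) (CurveVA.O1 i)) 0 + 1 =
      h k (CurveVA.O1 i) 0 := (h0_pointIdeal (k := k) hP hL).2.2.mpr hPgen
  have h2 : h k (CohB1.tensorMod (ClSub.idealMod (Scheme.IdealSheafData.vanishingIdeal ⟨{Q}, hQ⟩))
      (CohB1.tensorMod (ClSub.idealMod (Scheme.IdealSheafData.vanishingIdeal ⟨{P}, hP⟩)) (CurveVA.O1 i))) 0 + 1 =
      h k (CohB1.tensorMod (ClSub.idealMod (Scheme.IdealSheafData.vanishingIdeal ⟨{P}, hP⟩)) (CurveVA.O1 i)) 0 :=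
    (h0_pointIdeal (k := k) hQ hIL).2.2.mpr ⟨u, htQ u hu⟩
  rw [h_eq_of_iso (TMul.commIso (CurveVA.O1 i) _ ≪≫ PicGrp.tensorModIso (TMul.commIso _ _) (Iso.refl (CurveVA.O1 i)) ≪≫
    TMul.assocIso _ _ (CurveVA.O1 i)) 0]
  omega

end Groth.Agent.CurveOmega
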