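import Groth.Agent.CurveOmega.VeryAmple
import Groth.Agent.CurveOmega.VeryAmpleConv
import Groth.Agent.CurveVA.Main
import Mathlib

/-!
The criterion for very ampleness on a smooth proper curve over an algebraically closed field.
-/

set_option autoImplicit false
set_option backward.isDefEq.respectTransparency false
set_option linter.style.haveILetI false
set_option maxHeartbeats 1000000

universe u

open CategoryTheory CategoryTheory.Limits AlgebraicGeometry TopologicalSpace Opposite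
open Groth.Agent.CohFinite Groth.Agent.CurveRR
open Groth.Agent.QC (res resO res_self resO_self)
open TMul (IsGen homOf val_homOf tm)

noncomputable section

namespace Groth.Agent.CurveOmega

attribute [local instance] secMod

variable {k : Type u} [Field k] [IsAlgClosed k] {X : Scheme.{u}} [X.Over (Spec (CommRingCat.of k))] [IsIntegral X]
  [IsProper (X ↘ Spec (CommRingCat.of k))]

/-- `h⁰` drops by exactly two at all pairs of closed points. -/
def Sep (k : Type u) [Field k] (X : Scheme.{u}) [X.Over (Spec (CommRingCat.of k))] (L : X.Modules) : Prop :=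
  ∀ (P Q : X) (hP : IsClosed ({P} : Set X)) (hQ : IsClosed ({Q} : Set X)),
    h k (CohB1.tensorMod L (CohB1.tensorMod (ClSub.idealMod (Scheme.IdealSheafData.vanishingIdeal ⟨{P}, hP⟩))
      (ClSub.idealMod (Scheme.IdealSheafData.vanishingIdeal ⟨{Q}, hQ⟩)))) 0 + 2 = h k L 0

/-- Separating points and tangents gives a closed immersion. -/
theorem exists_closedImmersion_of_sep [Smooth (X ↘ Spec (CommRingCat.of k))] (hdim : topologicalKrullDim X = 1)
    {L : X.Modules} (hL : PicF.IsInvertible L) (hsep : Sep k X L) :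
    ∃ (n : ℕ) (i : X ⟶ CohB1.ProjSpace n k), IsClosedImmersion i ∧
      i ≫ CohB1.ProjSpace.toSpec n k = X ↘ (Spec (CommRingCat.of k)) ∧
      Nonempty ((Scheme.Modules.pullback i).obj (Twist.twistProjSpace n k 1) ≅ L) := by
  haveI := isNoetherian_of_proper k X
  obtain ⟨P₀, -, hP₀⟩ := (isClosed_closure (s := ({genericPoint X} : Set X))).exists_closed_singleton
    ⟨genericPoint X, subset_closure rfl⟩
  have h2 : 2 ≤ h k L 0 := by have := hsep P₀ P₀ hP₀ hP₀; omega
  have hIinv : ∀ {P : X} (hP : IsClosed ({P} : Set X)),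
      PicF.IsInvertible (ClSub.idealMod (Scheme.IdealSheafData.vanishingIdeal ⟨{P}, hP⟩)) := fun {P} hP =>
    isInvertible_pointIdeal hdim.le hP (genericPoint_ne_of_closed (k := k) hdim hP)
      (SmLocalST.isRegularLocalRing_stalk_of_smooth_field (X ↘ Spec (CommRingCat.of k)) _)
  have hgc : ∀ (P : X), IsClosed ({P} : Set X) → ∃ t : Γ(L, ⊤), P ∈ CohB1.genLocus L (homOf t) := fun P hP => by
    have h1 := h0_pointIdeal (k := k) hP hL
    have h3 := h0_pointIdeal (k := k) hP (TMul.isInvertible_tensorMod (hIinv hP) hL)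
    have := hsep P P hP hP
    rw [h_eq_of_iso (TMul.commIso L _ ≪≫ TMul.assocIso _ _ L) 0] at this
    refine h1.2.2.mp ?_
    have := h1.1
    have := h1.2.1
    have := h3.2.1
    omega
  have hgen : ∀ x : X, ∃ t : Γ(L, ⊤), x ∈ CohB1.genLocus L (homOf t) := fun x => by
    obtain ⟨z, hz, hzc⟩ := (isClosed_closure (s := ({x} : Set X))).exists_closed_singleton ⟨x, subset_closure rfl⟩
    obtain ⟨t, ht⟩ := hgc z hzc
    exact ⟨t, (specializes_iff_mem_closure.mpr hz).mem_open (CohB1.genLocus L (homOf t)).2 ht⟩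
  haveI := finite_proper k X _ (isCoh_of_inv hL) 0
  haveI : Module.Finite k Γ(L, ⊤) := Module.Finite.equiv (secH0 (k := k) L).symm
  obtain ⟨n, hn⟩ : ∃ n, Module.finrank k Γ(L, ⊤) = n + 1 := ⟨h k L 0 - 1, by rw [finrank_sec]; omega⟩
  let b : Module.Basis (Fin (n + 1)) k Γ(L, ⊤) := (Module.finBasis k Γ(L, ⊤)).reindex (finCongr hn)
  obtain ⟨f, hf, τ, hτ⟩ := ProjMor.exists_projSpace (X ↘ Spec (CommRingCat.of k)) hL (fun i => b i)
    (CurveVA.generatedBy_of_basis b hgen)
  have hsurj : ∀ t : Γ(CurveVA.O1 f, ⊤), ∃ c : Fin (n + 1) → k, t = ProjMor.pull1 f (ProjMor.linForms_mem n k c) :=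
    fun t => ⟨fun i => b.repr (τ.hom.app ⊤ t) i, (ConcreteCategory.bijective_of_isIso (τ.hom.app ⊤)).1 (by
      conv_lhs => rw [← b.sum_repr (τ.hom.app ⊤ t)]
      rw [ProjMor.pull1_linForms, hf, map_sum]
      refine Finset.sum_congr rfl fun i _ => ?_
      refine Eq.trans ?_ (TMul.app_smul τ.hom _ _).symm
      refine Eq.trans ?_ (congrArg (fun s : Γ(L, ⊤) =>
        ProjUP.toGlobal (X ↘ Spec (CommRingCat.of k)) (b.repr (τ.hom.app ⊤ t) i) • s) (hτ i)).symm
      show CurveRR.cst k X ⊤ (b.repr (τ.hom.app ⊤ t) i) • b i = _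
      exact congrArg (fun c : Γ(X, ⊤) => c • b i) (resO_self (le_top : (⊤ : X.Opens) ≤ ⊤) _))⟩
  have hO := CurveVA.isInvertible_O1 f
  let τ' : CurveVA.O1 f ≅ L := τ
  have hdeg : 0 < Curv2.deg k X (CurveVA.O1 f) 1 := by
    obtain ⟨s, hs⟩ := exists_section (k := k) (L := CurveVA.O1 f) (by rw [h_eq_of_iso τ' 0]; omega)
    obtain ⟨hle, hiso⟩ := deg_le_and_isIso (k := k) hdim.le TMul.isInvertible_structureModule hO s hs
    rw [deg_structure] at hle hiso
    rcases hle.lt_or_eq with h | h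
    · exact h
    · haveI := hiso h
      have h1 := h0_structure k X
      rw [h_eq_of_iso (asIso s ≪≫ τ') 0] at h1
      omega
  refine ⟨n, f, CurveVA.isClosedImmersion_of_fibre f hdim hf hdeg hsurj
    (fun hI ι hι hQ g0 hs => false_of_fibre' (k := k) hdim hO (fun P Q hP hQ' => ?_) hI ι hι hQ g0 hs), hf, ⟨τ⟩⟩
  rw [h_eq_of_iso (PicGrp.tensorModIso τ' (Iso.refl _)) 0, h_eq_of_iso τ' 0]
  exact hsep P Q hP hQ'

/-- The criterion. -/
theorem veryAmple_iff_sep [Smooth (X ↘ Spec (CommRingCat.of k))] (hdim : topologicalKrullDim X = 1)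
    {L : X.Modules} (hL : PicF.IsInvertible L) :
    (∃ (n : ℕ) (i : X ⟶ CohB1.ProjSpace n k), IsClosedImmersion i ∧
      i ≫ CohB1.ProjSpace.toSpec n k = X ↘ (Spec (CommRingCat.of k)) ∧
      Nonempty ((Scheme.Modules.pullback i).obj (Twist.twistProjSpace n k 1) ≅ L)) ↔ Sep k X L := by
  refine ⟨?_, exists_closedImmersion_of_sep hdim hL⟩
  rintro ⟨n, i, hi, -, ⟨τ⟩⟩ P Q hP hQ
  haveI := hi
  have h1 := sep_of_closedImmersion (k := k) hdim i hP hQ
  let τ' : CurveVA.O1 i ≅ L := τ
  rw [h_eq_of_iso (PicGrp.tensorModIso τ' (Iso.refl _)) 0, h_eq_of_iso τ' 0] at h1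
  exact h1

end Groth.Agent.CurveOmega
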