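import Groth.Agent.CurveOmega.BarSections
import Groth.Agent.CurveOmega.VeryAmpleCrit
import Groth.Agent.AmpleEmb.Closed
import Mathlib

/-!
Very ampleness is insensitive to extension of scalars to an algebraic closure.
-/

set_option autoImplicit false
set_option backward.isDefEq.respectTransparency false
set_option backward.isDefEq.respectTransparency.types false
set_option linter.style.haveILetI false
set_option maxHeartbeats 1000000

universe u

open CategoryTheory CategoryTheory.Limits AlgebraicGeometry TopologicalSpace Opposite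
open Groth.Agent.CohFinite Groth.Agent.CurveRR
open Groth.Agent.QC (res resO res_res res_self res_smul resO_resO resO_self app_res)
open TMul (IsGen homOf val_homOf tm)
open ProjMor (ev)

noncomputable section

namespace Groth.Agent.CurveOmega

attribute [local instance] secMod

section Chart

variable {k : Type u} [Field k] {n : ℕ} {X : Scheme.{u}} [X.Over (Spec (CommRingCat.of k))] {L : X.Modules}
  (r : X ⟶ CohB1.ProjSpace n k) (τ : (Scheme.Modules.pullback r).obj (Twist.twistProjSpace n k 1) ≅ L)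
  (s : Fin (n + 1) → Γ(L, ⊤))

/-- The coordinates of a morphism are the given sections. -/
def Coord : Prop := ∀ i, τ.hom.app ⊤ (ProjUP.pullSec r (Twist.twistProjSpace n k 1) (ProjUP.coord n k i)) = s i

variable {r τ s} (hτ : Coord r τ s)
include hτ

theorem preimage_ch (j : Fin (n + 1)) : r ⁻¹ᵁ PicPn.ch (k := k) j = CohB1.genLocus L (homOf (s j)) := by
  rw [← hτ j, ProjMor.homOf_app, TMul.genLocus_comp]
  exact (ProjMor.genLocus_pull1 (ProjMor.genDegOne_projSpace n k) r (PicPn.X_mem (k := k) j)).symm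

theorem res_eq_ratio {j : Fin (n + 1)} {W : X.Opens} (hW : W ≤ r ⁻¹ᵁ PicPn.ch (k := k) j) (l : Fin (n + 1)) :
    res L (le_top : W ≤ ⊤) (s l) = ev r _ W hW (PicPn.z j l) • res L (le_top : W ≤ ⊤) (s j) := by
  have e : ∀ a, τ.hom.app ⊤ (ProjMor.pull1 r (PicPn.X_mem (k := k) a)) = s a := hτ
  rw [← e l, ← e j, app_res, app_res, ← TMul.app_smul]
  exact congrArg (τ.hom.app W) (ProjMor.res_pull1 r (PicPn.X_mem (k := k) j) (PicPn.X_mem (k := k) l) hW)

theorem isGen_res {j : Fin (n + 1)} {W : X.Opens} (hW : W ≤ r ⁻¹ᵁ PicPn.ch (k := k) j) :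
    IsGen (res L (le_top : W ≤ ⊤) (s j)) := by
  rw [preimage_ch hτ] at hW
  have h := (TMul.isGen_genLocus (homOf (s j))).res hW
  rw [val_homOf, res_res] at h
  exact h

omit hτ in
theorem ev_const (hr : r ≫ CohB1.ProjSpace.toSpec n k = X ↘ Spec (CommRingCat.of k)) {j : Fin (n + 1)} {W : X.Opens}
    (hW : W ≤ r ⁻¹ᵁ PicPn.ch (k := k) j) (a : k) :
    ev r _ W hW (GrT.deh (CohB1.polyGrading n k) (PicPn.X_mem j) (MvPolynomial.C a)) = cst k X W a := by
  refine (ProjMor.ev_deh_algebraMap (CohB1.polyGrading n k) r (show r ≫ ProjMor.base _ = _ from hr)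
    (PicPn.X_mem (k := k) j) hW a).trans ?_
  rfl

omit hτ in
/-- A chart is surjective iff constants and ratios generate. -/
theorem ev_surjective_iff (hr : r ≫ CohB1.ProjSpace.toSpec n k = X ↘ Spec (CommRingCat.of k)) {j : Fin (n + 1)}
    {W : X.Opens} (hW : W ≤ r ⁻¹ᵁ PicPn.ch (k := k) j) :
    Function.Surjective (ev r _ W hW) ↔
      Subring.closure (Set.range (cst k X W) ∪ Set.range fun l => ev r _ W hW (PicPn.z j l)) = ⊤ := by
  constructor
  · intro h
    obtain ⟨e, hez, heC⟩ := PicPn.exists_chart (k := k) j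
    refine eq_top_iff.mpr fun z hz => ?_
    clear hz
    obtain ⟨a, rfl⟩ := h z
    obtain ⟨p, rfl⟩ := e.symm.surjective a
    induction p using MvPolynomial.induction_on with
    | C c =>
      rw [show e.symm (MvPolynomial.C c) = _ from e.symm_apply_eq.mpr (heC c).symm, ev_const hr]
      exact Subring.subset_closure (Or.inl ⟨c, rfl⟩)
    | add p q hp hq => rw [map_add, map_add]; exact Subring.add_mem _ hp hq
    | mul_X p l hp =>
      rw [map_mul, map_mul, show e.symm (MvPolynomial.X l) = PicPn.z j l.1 from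
        e.symm_apply_eq.mpr (hez l.1 l.2).symm]
      exact Subring.mul_mem _ hp (Subring.subset_closure (Or.inr ⟨l.1, rfl⟩))
  · intro h
    rw [← RingHom.range_eq_top, eq_top_iff, ← h, Subring.closure_le]
    rintro z (⟨a, rfl⟩ | ⟨l, rfl⟩)
    · exact ⟨_, ev_const hr hW a⟩
    · exact ⟨_, rfl⟩

end Chart

section Bar

variable (k : Type u) [Field k] (X : Scheme.{u}) [X.Over (Spec (CommRingCat.of k))]

/-- A section over the algebraic closure. -/
abbrev barSec (L : X.Modules) (t : Γ(L, ⊤)) : Γ((Scheme.Modules.pullback (barFst k X)).obj L, ⊤) :=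
  ProjUP.pullSec (barFst k X) L t

variable {k X} {L : X.Modules}

/-- Pulling back a ratio. -/
theorem res_barSec {W : X.Opens} {g t : Γ(L, ⊤)} {c : Γ(X, W)}
    (h : res L (le_top : W ≤ ⊤) t = c • res L (le_top : W ≤ ⊤) g) :
    res _ (le_top : barFst k X ⁻¹ᵁ W ≤ ⊤) (barSec k X L t) =
      ((barFst k X).app W).hom c • res _ (le_top : barFst k X ⁻¹ᵁ W ≤ ⊤) (barSec k X L g) := by
  rw [ProjMor.res_pullSec (barFst k X) L t (le_refl _), ProjMor.res_pullSec (barFst k X) L g (le_refl _), h,
    ProjMor.eta_smul, res_smul, resO_self]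

theorem genLocus_barSec (hL : PicF.IsInvertible L) (t : Γ(L, ⊤)) :
    CohB1.genLocus _ (homOf (barSec k X L t)) = barFst k X ⁻¹ᵁ CohB1.genLocus L (homOf t) :=
  ProjMor.genLocus_pullSec _ hL t

variable [IsProper (X ↘ Spec (CommRingCat.of k))] [IsIntegral X]

/-- Independent sections stay independent. -/
theorem barSec_independent (hL : PicF.IsInvertible L) {ι : Type*} [Fintype ι] (s : ι → Γ(L, ⊤))
    (hs : ∀ a : ι → k, ∑ i, cst k X ⊤ (a i) • s i = 0 → a = 0) (a : ι → AlgebraicClosure k)
    (ha : ∑ i, cst (AlgebraicClosure k) (bar k X) ⊤ (a i) • barSec k X L (s i) = 0) : a = 0 := by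
  classical
  haveI := isNoetherian_of_proper k X
  by_cases hι : IsEmpty ι
  · exact funext fun i => isEmptyElim i
  obtain ⟨i₀⟩ := not_isEmpty_iff.mp hι
  have hne : s i₀ ≠ 0 := fun h0 => by
    have := congrFun (hs (Pi.single i₀ 1) (by
      rw [Finset.sum_eq_single i₀ (fun j _ hj => by simp [hj]) (fun h => absurd (Finset.mem_univ i₀) h)]
      simp [h0])) i₀
    simp at this
  obtain ⟨W, hW, hηW, hWG⟩ := exists_isAffineOpen_mem_and_subset (generic_mem_genLocus hL hne)
  have hg : IsGen (res L (le_top : W ≤ ⊤) (s i₀)) := by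
    have h := (TMul.isGen_genLocus (homOf (s i₀))).res hWG
    rw [val_homOf, res_res] at h
    exact h
  choose c hc using fun i => (hg W le_rfl).2 (res L (le_top : W ≤ ⊤) (s i))
  have hc' : ∀ i, res L (le_top : W ≤ ⊤) (s i) = c i • res L (le_top : W ≤ ⊤) (s i₀) := fun i => by
    rw [← hc i]; exact congrArg (c i • ·) (res_self _ _ _)
  refine bar_independent hW c (fun b hb => hs b ?_) a ?_
  · have h1 : res L (le_top : W ≤ ⊤) (∑ i, cst k X ⊤ (b i) • s i) = 0 := by
      rw [map_sum]
      rw [Finset.sum_congr rfl fun i _ => show res L (le_top : W ≤ ⊤) (cst k X ⊤ (b i) • s i) =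
          (resO X (le_top : W ≤ ⊤) (cst k X ⊤ (b i)) * c i) • res L (le_top : W ≤ ⊤) (s i₀) by
        rw [res_smul, hc', smul_smul], ← Finset.sum_smul]
      rw [show (∑ i, resO X (le_top : W ≤ ⊤) (cst k X ⊤ (b i)) * c i) = ∑ i, cst k X W (b i) * c i from
        Finset.sum_congr rfl fun i _ => by rw [show cst k X ⊤ (b i) = resO X le_top _ from rfl, resO_resO]; rfl,
        hb, zero_smul]
    by_contra hne'
    have hmem := generic_mem_genLocus hL hne'
    have hu := (TMul.mem_genLocus_iff_isUnit _ hg (c := (0 : Γ(X, W))) (by rw [val_homOf, h1, zero_smul]) hηW).mp hmem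
    rw [map_zero] at hu
    exact not_isUnit_zero hu
  · have hg' : IsGen (res _ (le_top : barFst k X ⁻¹ᵁ W ≤ ⊤) (barSec k X L (s i₀))) := by
      have h := (TMul.isGen_genLocus (homOf (barSec k X L (s i₀)))).res
        (show barFst k X ⁻¹ᵁ W ≤ _ from ((barFst k X).preimage_mono hWG).trans (genLocus_barSec hL _).ge)
      rw [val_homOf, res_res] at h
      exact h
    refine (hg' _ le_rfl).1 ?_
    show _ • res _ le_rfl _ = (0 : Γ(bar k X, _)) • res _ le_rfl _
    rw [zero_smul, res_self, Finset.sum_smul]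
    have h2 := congrArg (res _ (le_top : barFst k X ⁻¹ᵁ W ≤ ⊤)) ha
    rw [map_sum, map_zero] at h2
    refine Eq.trans (Finset.sum_congr rfl fun i _ => ?_) h2
    rw [res_smul, res_barSec (hc' i), smul_smul]
    exact congrArg (fun e : Γ(bar k X, barFst k X ⁻¹ᵁ W) => (e * _) • _) (resO_resO _ _ _).symm

end Bar

end Groth.Agent.CurveOmega
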