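import Groth.Agent.CurveFF.Places
import Groth.Agent.CurveFF.FunctionField
import Groth.Agent.RefDiv.Inv
import Groth.Agent.RefDiv.Ideal
import Groth.Agent.CurveRR.Deg
import Groth.Agent.CurveRR.SmoothPt
import Groth.Agent.CurveRR.GenusMap
import Groth.Agent.CurveRR.Zero
import Groth.Agent.FunFld.Weil
import Groth.Agent.S2500

/-!
Rational sections of invertible modules on a smooth proper curve over an algebraically closed field as
divisors of its function field: degrees, genus and spaces of sections agree.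
-/

set_option autoImplicit false
set_option backward.isDefEq.respectTransparency false
set_option linter.style.haveILetI false
set_option linter.unusedSectionVars false

universe u

open CategoryTheory CategoryTheory.Limits AlgebraicGeometry TopologicalSpace Opposite
open Groth.Agent.WeakAssLib (mgerm mgerm_res mgerm_smul)
open Groth.Agent.RefStalk (toGen msp msp_germ msp_smul)
open Groth.Agent.RefDiv (St dv)
open TMul (IsGen)
open WithZero (exp)

noncomputable section

namespace Groth.Agent.CurveOmega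

attribute [local instance] CurveRR.secMod

section general

theorem mem_top' {X : Scheme.{u}} (x : X) : x ∈ (⊤ : X.Opens) := Set.mem_univ x

theorem topη (X : Scheme.{u}) [IsIntegral X] : genericPoint X ∈ (⊤ : X.Opens) := mem_top' _

/-- Two surjective additive functions on a field with the same nonnegative elements are equal. -/
theorem ord_eq_of_cone {K : Type*} [Field K] {v w : K → ℤ}
    (hv : ∀ a b, a ≠ 0 → b ≠ 0 → v (a * b) = v a + v b) (hw : ∀ a b, a ≠ 0 → b ≠ 0 → w (a * b) = w a + w b)
    (hvs : ∃ π, π ≠ 0 ∧ v π = 1) (hws : ∃ π, π ≠ 0 ∧ w π = 1) (h : ∀ a, a ≠ 0 → (0 ≤ v a ↔ 0 ≤ w a))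
    {a : K} (ha : a ≠ 0) : v a = w a := by
  obtain ⟨π, hπ0, hπ⟩ := hvs
  obtain ⟨ρ, hρ0, hρ⟩ := hws
  have h1 : ∀ {u : K → ℤ}, (∀ a b, a ≠ 0 → b ≠ 0 → u (a * b) = u a + u b) → u 1 = 0 := fun {u} hu => by
    have := hu 1 1 one_ne_zero one_ne_zero
    rw [one_mul] at this; omega
  have hzp : ∀ {u : K → ℤ}, (∀ a b, a ≠ 0 → b ≠ 0 → u (a * b) = u a + u b) → ∀ (c : K), c ≠ 0 → ∀ n : ℤ,
      u (c ^ n) = n * u c := fun {u} hu c hc n => by
    induction n using Int.induction_on with
    | zero => rw [zpow_zero, h1 hu, zero_mul]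
    | succ m ih => rw [zpow_add_one₀ hc, hu _ _ (zpow_ne_zero _ hc) hc, ih]; ring
    | pred m ih =>
      have e := hu (c ^ (-(m : ℤ) - 1)) c (zpow_ne_zero _ hc) hc
      rw [← zpow_add_one₀ hc, sub_add_cancel, ih] at e
      linarith
  have hker : ∀ b, b ≠ 0 → v b = 0 → w b = 0 := fun b hb hb0 => by
    have hi := hzp hv b hb (-1)
    have hi' := hzp hw b hb (-1)
    have p1 := (h b hb).1 (by omega)
    have p2 := (h (b ^ (-1 : ℤ)) (zpow_ne_zero _ hb)).1 (by omega)
    omega
  have key : ∀ b, b ≠ 0 → w b = v b * w π := fun b hb => by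
    have h0 : v (b * π ^ (-v b)) = 0 := by
      rw [hv _ _ hb (zpow_ne_zero _ hπ0), hzp hv π hπ0, hπ]; ring
    have := hker _ (mul_ne_zero hb (zpow_ne_zero _ hπ0)) h0
    rw [hw _ _ hb (zpow_ne_zero _ hπ0), hzp hw π hπ0] at this
    linarith
  have hpos : 0 ≤ w π := (h π hπ0).1 (by omega)
  have hone : w π = 1 := by
    have e := key ρ hρ0
    rw [hρ] at e
    rcases Int.eq_one_or_neg_one_of_mul_eq_one' e.symm with ⟨-, h2⟩ | ⟨-, h2⟩ <;> omega
  rw [key a ha, hone, mul_one]

end general

variable {k : Type u} [Field k] {X : Scheme.{u}} [X.Over (Spec (CommRingCat.of k))] [IsIntegral X]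
  [IsLocallyNoetherian X]

/-- The function field as a `k`-algebra. -/
@[reducible] def kAlg : Algebra k X.functionField := CurveFF.ffAlg (X ↘ Spec (CommRingCat.of k))

attribute [local instance] kAlg

variable (hC : Curve.IsSmoothProperCurve k X (X ↘ Spec (CommRingCat.of k)))
include hC

omit [IsLocallyNoetherian X] in
theorem instNoeth : IsLocallyNoetherian X := by
  haveI := CurveFF.instLFT hC
  exact LocallyOfFiniteType.isLocallyNoetherian (X ↘ Spec (CommRingCat.of k))

theorem normal : Pi1.IsNormalScheme X := fun x => ⟨inferInstance, CurveFF.stalk_normal hC x⟩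

theorem isFunctionField [IsAlgClosed k] : FunFld.IsFunctionField k X.functionField :=
  haveI := Groth.Agent.S2500.result (X ↘ Spec (CommRingCat.of k))
  CurveFF.isFunctionField hC

theorem coheight_eq_one {x : X} (hx : IsClosed ({x} : Set X)) : Order.coheight x = 1 := by
  haveI := instNoeth hC
  haveI := CurveFF.stalk_dvr hC hx
  have h := ringKrullDim_stalk_eq_coheight (X := X) x
  rw [IsPrincipalIdealRing.ringKrullDim_eq_one _ (IsDiscreteValuationRing.not_isField _)] at h
  exact (WithBot.coe_inj.1 h).symm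

theorem isClosed_of_coheight {x : X} (hx : Order.coheight x = 1) : IsClosed ({x} : Set X) :=
  CurveFF.isClosed_of_ne_generic hC fun h => by
    haveI := instNoeth hC
    rw [h, RefDiv.coheight_genericPoint] at hx
    exact zero_ne_one hx

/-- Orders at closed points are orders at places. -/
theorem ord_placeOf (x : {x : X // IsClosed ({x} : Set X)}) {φ : X.functionField} (hφ : φ ≠ 0) :
    Scheme.ord φ x.1 = (CurveFF.placeOf hC x).ord φ := by
  haveI := instNoeth hC
  have hx := coheight_eq_one hC x.2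
  refine ord_eq_of_cone (v := fun a => Scheme.ord a x.1) (w := fun a => (CurveFF.placeOf hC x).ord a)
    (fun a b ha hb => Scheme.ord_mul ha hb) (fun a b ha hb => ?_) ?_ ?_ (fun a ha => ?_) hφ
  · simp only [FunFld.Place.ord, map_mul, WithZero.log_mul ((CurveFF.placeOf hC x).1.ne_zero_iff.2 ha)
      ((CurveFF.placeOf hC x).1.ne_zero_iff.2 hb)]
    ring
  · obtain ⟨a, ha0, ha⟩ := RefDiv.exists_ord_eq (normal hC) hx 1
    exact ⟨a, ha0, ha⟩
  · obtain ⟨a, ha⟩ := (CurveFF.placeOf hC x).2.2 (exp (-1))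
    exact ⟨a, fun e => WithZero.exp_ne_zero (ha.symm.trans (by rw [e, map_zero])),
      by rw [FunFld.ord_eq_of_val _ ha, neg_neg]⟩
  · rw [RefDiv.ord_nonneg_iff (normal hC) hx ha, FunFld.ord_nonneg_iff _ ha, CurveFF.placeOf_le_one_iff hC]
    rfl

theorem finite_notMem [IsProper (X ↘ Spec (CommRingCat.of k))] {W : X.Opens} (hW : genericPoint X ∈ W) :
    ((W : Set X)ᶜ).Finite := by
  haveI := instNoeth hC
  exact CurveRR.finite_of_dim_le_zero (k := k) W.2.isClosed_compl
    (CurveRR.dim_compl_le_zero hC.2.2.2.le W (W.2.dense ⟨_, hW⟩))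

/-- The point of a place. -/
def pt (P : FunFld.Place k X.functionField) : X := ((CurveFF.pointEquiv hC).symm P).1

theorem isClosed_pt (P : FunFld.Place k X.functionField) : IsClosed ({pt hC P} : Set X) :=
  ((CurveFF.pointEquiv hC).symm P).2

theorem coheight_pt (P : FunFld.Place k X.functionField) : Order.coheight (pt hC P) = 1 :=
  coheight_eq_one hC (isClosed_pt hC P)

theorem ord_pt (P : FunFld.Place k X.functionField) {φ : X.functionField} (hφ : φ ≠ 0) :
    Scheme.ord φ (pt hC P) = P.ord φ := by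
  have h := ord_placeOf hC ((CurveFF.pointEquiv hC).symm P) hφ
  rwa [show CurveFF.placeOf hC ((CurveFF.pointEquiv hC).symm P) = P from
    (CurveFF.pointEquiv hC).apply_symm_apply P] at h

theorem exists_pt_eq {x : X} (hx : IsClosed ({x} : Set X)) : ∃ P, pt hC P = x :=
  ⟨CurveFF.pointEquiv hC ⟨x, hx⟩, congrArg Subtype.val ((CurveFF.pointEquiv hC).symm_apply_apply _)⟩

/-- The divisor of a rational section, as a function on places. -/
def dvp (L : X.Modules) (s : St L) (P : FunFld.Place k X.functionField) : ℤ :=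
  haveI := instNoeth hC
  dv L (pt hC P) s

theorem dvp_eq_ord {L : X.Modules} (hL : RefDiv.Lat L) {W : X.Opens} (hW : genericPoint X ∈ W) {e : Γ(L, W)}
    (he : IsGen e) {s : St L} {φ : X.functionField} (hφ : φ ≠ 0) (hs : φ • mgerm L hW e = s)
    {P : FunFld.Place k X.functionField} (hP : pt hC P ∈ W) : dvp hC L s P = P.ord φ := by
  haveI := instNoeth hC
  rw [dvp, dv, hL.secOrdAt_mk (coheight_pt hC P)
    (RefDiv.span_eq_top_of_surjective (RefDiv.bijective_germ_of_isGen he hP).2) hφ, ord_pt hC P hφ]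
  rw [← hs]
  exact congrArg (φ • ·) (msp_germ L (toGen (pt hC P)) hP e)

theorem finite_support_dvp [IsAlgClosed k] {L : X.Modules} (hL : PicF.IsInvertible L) {s : St L} (hs : s ≠ 0) :
    (Function.support (dvp hC L s)).Finite := by
  haveI := hC.1
  have hlat := RefDiv.lat_of_isInvertible hL
  obtain ⟨W, hW, e, he⟩ := hlat.exists_isGen_generic
  obtain ⟨φ, hφs⟩ := (RefDiv.bijective_germ_of_isGen he hW).2 s
  have hφ : φ ≠ 0 := fun h0 => hs (hφs.symm.trans ((congrArg (· • mgerm L hW e) h0).trans (zero_smul _ _)))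
  have hinj : Function.Injective (pt hC) := Subtype.val_injective.comp (CurveFF.pointEquiv hC).symm.injective
  refine (((finite_notMem hC hW).preimage hinj.injOn).union
    (FunFld.finite_support (isFunctionField hC) φ)).subset fun P hP => ?_
  by_cases hPW : pt hC P ∈ W
  · refine Or.inr ?_
    rw [Function.mem_support] at hP ⊢
    rwa [dvp_eq_ord hC hlat hW he hφ hφs hPW] at hP
  · exact Or.inl hPW

open scoped Classical in
/-- The divisor of a rational section. -/
def divOf (L : X.Modules) (s : St L) : FunFld.Divisor k X.functionField :=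
  if h : (Function.support (dvp hC L s)).Finite then Finsupp.ofSupportFinite _ h else 0

theorem divOf_apply [IsAlgClosed k] {L : X.Modules} (hL : PicF.IsInvertible L) {s : St L} (hs : s ≠ 0)
    (P : FunFld.Place k X.functionField) : divOf hC L s P = dvp hC L s P := by
  rw [divOf, dif_pos (finite_support_dvp hC hL hs)]; rfl

omit hC in
theorem mgerm_cst (L : X.Modules) (a : k) (t : Γ(L, (⊤ : X.Opens))) :
    mgerm L (topη X) (a • t) =
      algebraMap k X.functionField a • mgerm L (topη X) t := by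
  rw [CurveRR.smul_def, mgerm_smul]
  exact congrArg (· • mgerm L (topη X) t)
    (CurveFF.germ_secStr (X ↘ Spec (CommRingCat.of k)) (W := ⊤) (topη X) a)

omit hC in
/-- A rational section lying in every stalk is a global section. -/
theorem exists_sec {L : X.Modules} (hL : PicF.IsInvertible L) (v : St L)
    (h : ∀ x : X, x ≠ genericPoint X → ∃ n, msp L (toGen x) n = v) :
    ∃ t : Γ(L, (⊤ : X.Opens)), mgerm L (topη X) t = v := by
  classical
  have hex : ∀ x : X, ∃ (W : X.Opens) (_ : x ∈ W) (hη : genericPoint X ∈ W) (t : Γ(L, W)), mgerm L hη t = v := by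
    intro x
    by_cases hx : x = genericPoint X
    · obtain ⟨W, hW, t, ht⟩ := TopCat.Presheaf.exists_germ_eq L.presheaf v
      exact ⟨W, hx ▸ hW, hW, t, ht⟩
    · obtain ⟨n, hn⟩ := h x hx
      obtain ⟨W, hW, t, ht⟩ := TopCat.Presheaf.exists_germ_eq L.presheaf n
      refine ⟨W, hW, (toGen x).mem_open W.2 hW, t, ?_⟩
      rw [← msp_germ L (toGen x) hW t, ← hn]
      exact congrArg _ ht
  choose W hxW hη t ht using hex
  obtain ⟨a, ha, -⟩ := TopCat.Sheaf.existsUnique_gluing' (Groth.Agent.QC.abSheaf L) W ⊤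
    (fun x => homOfLE le_top) (fun x _ => Opens.mem_iSup.2 ⟨x, hxW x⟩) t fun x y => by
      refine sub_eq_zero.1 (CurveRR.eq_zero_of_germ_generic hL
        (U := W x ⊓ W y) _ ⟨hη x, hη y⟩ ?_)
      rw [map_sub, sub_eq_zero]
      exact (mgerm_res L inf_le_left ⟨hη x, hη y⟩ (t x)).trans
        ((ht x).trans ((ht y).symm.trans (mgerm_res L inf_le_right ⟨hη x, hη y⟩ (t y)).symm))
  refine ⟨a, ?_⟩
  rw [← mgerm_res L (le_top : W (genericPoint X) ≤ ⊤) (hη (genericPoint X)) a, ← ht (genericPoint X)]
  exact congrArg _ (ha (genericPoint X))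

/-- `H⁰(L)` is the Riemann-Roch space of the divisor of any rational section. -/
theorem h_eq_ell [IsAlgClosed k] {L : X.Modules} (hL : PicF.IsInvertible L) {s : St L} (hs : s ≠ 0) :
    CurveRR.h k L 0 = FunFld.ell (divOf hC L s) := by
  classical
  haveI := instNoeth hC
  have hlat := RefDiv.lat_of_isInvertible hL
  choose c hc using fun t : Γ(L, (⊤ : X.Opens)) =>
    hlat.exists_smul hs (mgerm L (topη X) t)
  have hmem : ∀ t, c t ∈ FunFld.L (divOf hC L s) := fun t P => by
    rcases eq_or_ne (c t) 0 with h0 | h0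
    · rw [h0, map_zero]; exact zero_le
    obtain ⟨m, hm⟩ := hlat.exists_span (normal hC) (coheight_pt hC P)
    obtain ⟨φ, hφ, hφs⟩ := hlat.exists_coeff hm hs
    obtain ⟨r, hr⟩ := RefDiv.exists_smul_of_span hm
      (mgerm L (mem_top' (pt hC P)) t)
    have e : (c t * φ) • msp L (toGen (pt hC P)) m = RefDiv.sp (pt hC P) r • msp L (toGen (pt hC P)) m := by
      rw [mul_smul, hφs, hc]
      refine Eq.trans ?_ (msp_smul L (toGen (pt hC P)) r m)
      rw [hr]
      exact (msp_germ L (toGen (pt hC P)) _ t).symm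
    have hnn : 0 ≤ Scheme.ord (c t * φ) (pt hC P) := by
      rw [RefDiv.ord_nonneg_iff (normal hC) (coheight_pt hC P) (mul_ne_zero h0 hφ)]
      exact ⟨r, (RefDiv.smul_cancel (hlat.msp_ne_zero hm) e).symm⟩
    rw [Scheme.ord_mul h0 hφ, ord_pt hC P h0] at hnn
    rw [FunFld.val_eq_exp P h0, divOf_apply hC hL hs, WithZero.exp_le_exp, dvp, dv,
      hlat.secOrdAt_mk (coheight_pt hC P) hm hφ hφs]
    omega
  let F : Γ(L, (⊤ : X.Opens)) →ₗ[k] FunFld.L (divOf hC L s) :=
    { toFun := fun t => ⟨c t, hmem t⟩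
      map_add' := fun t t' => Subtype.ext (RefDiv.smul_cancel hs (by
        show c (t + t') • s = (c t + c t') • s
        rw [hc, map_add, add_smul, hc, hc]))
      map_smul' := fun a t => Subtype.ext (RefDiv.smul_cancel hs (by
        show c (a • t) • s = (a • c t) • s
        rw [hc, mgerm_cst, Algebra.smul_def, mul_smul, hc])) }
  have hF : Function.Bijective F := by
    refine ⟨fun t t' e => ?_, fun y => ?_⟩
    · have e' : mgerm L (topη X) (t - t') = 0 := by
        rw [map_sub, ← hc t, ← hc t', show c t = c t' from congrArg Subtype.val e, sub_self]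
      exact sub_eq_zero.1 (CurveRR.eq_zero_of_germ_generic hL _ _ e')
    · rcases eq_or_ne y.1 0 with h0 | h0
      · exact ⟨0, Subtype.ext (RefDiv.smul_cancel hs (by
          show c 0 • s = y.1 • s
          rw [hc, map_zero, h0]; exact (zero_smul _ s).symm))⟩
      obtain ⟨t, ht⟩ := exists_sec hL (y.1 • s) fun x hx => by
        have hcl := CurveFF.isClosed_of_ne_generic hC hx
        obtain ⟨P, rfl⟩ := exists_pt_eq hC hcl
        obtain ⟨m, hm⟩ := hlat.exists_span (normal hC) (coheight_pt hC P)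
        obtain ⟨φ, hφ, hφs⟩ := hlat.exists_coeff hm hs
        have hy := y.2 P
        rw [FunFld.val_eq_exp P h0, divOf_apply hC hL hs, WithZero.exp_le_exp, dvp, dv,
          hlat.secOrdAt_mk (coheight_pt hC P) hm hφ hφs] at hy
        obtain ⟨r, hr⟩ := (RefDiv.ord_nonneg_iff (normal hC) (coheight_pt hC P) (mul_ne_zero h0 hφ)).1 (by
          rw [Scheme.ord_mul h0 hφ, ord_pt hC P h0]; omega)
        refine ⟨r • m, ?_⟩
        rw [msp_smul, show RefDiv.sp (pt hC P) r = y.1 * φ from hr, mul_smul, hφs]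
      exact ⟨t, Subtype.ext (RefDiv.smul_cancel hs ((hc t).trans ht))⟩
  rw [← CurveRR.finrank_sec]
  exact (LinearEquiv.ofBijective F hF).finrank_eq

theorem exists_divOf_tensor [IsAlgClosed k] {L M : X.Modules} (hL : PicF.IsInvertible L)
    (hM : PicF.IsInvertible M) {s : St L} (hs : s ≠ 0) {t : St M} (ht : t ≠ 0) :
    ∃ w : St (CohB1.tensorMod L M), w ≠ 0 ∧
      divOf hC (CohB1.tensorMod L M) w = divOf hC L s + divOf hC M t := by
  haveI := instNoeth hC
  have lL := RefDiv.lat_of_isInvertible hL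
  have lM := RefDiv.lat_of_isInvertible hM
  have hT := TMul.isInvertible_tensorMod hL hM
  have rT := RefDiv.isRef1_of_isInvertible hT
  haveI : IsIso (RefHull.bidualMap (CohB1.tensorMod L M)) := rT.2.1
  obtain ⟨w, hw, hwD⟩ := RefDiv.hasDiv_tensor (normal hC) lL lM hs ht
  obtain ⟨w', hw', hwD'⟩ := RefDiv.hasDiv_iso (normal hC) (RefDiv.lat_tensor lL lM)
    (RefDiv.lat_of_isInvertible hT) (asIso (RefHull.bidualMap (CohB1.tensorMod L M))).symm
    (D := fun x => dv L x s + dv M x t) ⟨w, hw, hwD⟩
  refine ⟨w', hw', Finsupp.ext fun P => ?_⟩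
  rw [Finsupp.add_apply, divOf_apply hC hT hw', divOf_apply hC hL hs, divOf_apply hC hM ht]
  exact hwD' _ (coheight_pt hC P)

theorem exists_divOf_structure [IsAlgClosed k] :
    ∃ s : St (Coh.structureModule X), s ≠ 0 ∧ divOf hC (Coh.structureModule X) s = 0 := by
  haveI := instNoeth hC
  obtain ⟨s, hs, hsD⟩ := RefDiv.hasDiv_structureModule (X := X) (normal hC)
  refine ⟨s, hs, Finsupp.ext fun P => ?_⟩
  rw [divOf_apply hC TMul.isInvertible_structureModule hs]
  exact hsD _ (coheight_pt hC P)

theorem exists_divOf_pow [IsAlgClosed k] {A : X.Modules} (hA : PicF.IsInvertible A) {a : St A} (ha : a ≠ 0)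
    (n : ℕ) : ∃ w : St (CohB1.tensorPow A n), w ≠ 0 ∧ divOf hC (CohB1.tensorPow A n) w = n • divOf hC A a := by
  induction n with
  | zero => rw [zero_smul]; exact exists_divOf_structure hC
  | succ m ih =>
    obtain ⟨w, hw, hwD⟩ := ih
    obtain ⟨w', hw', hwD'⟩ := exists_divOf_tensor hC (TMul.isInvertible_tensorPow hA m) hA hw ha
    exact ⟨w', hw', by rw [succ_nsmul, ← hwD]; exact hwD'⟩

/-- Degrees and genera of the scheme and of the function field agree. -/
theorem deg_genus [IsAlgClosed k] : Curv2.genus k X = FunFld.genus k X.functionField ∧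
    ∀ (L : X.Modules), PicF.IsInvertible L → ∀ s : St L, s ≠ 0 →
      (divOf hC L s).deg = Curv2.deg k X L 1 := by
  haveI := hC.1
  haveI : Smooth (X ↘ Spec (CommRingCat.of k)) := hC.2.1
  haveI := instNoeth hC
  have hK := isFunctionField hC
  have hdim : topologicalKrullDim X ≤ 1 := hC.2.2.2.le
  have h0 := CurveRR.h0_structure k X
  obtain ⟨P⟩ := FunFld.exists_place_any hK
  have hcl := isClosed_pt hC P
  have hI := CurveRR.isInvertible_pointIdeal hdim hcl (Ne.symm (CurveFF.ne_generic hC hcl))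
    (SmLocalST.isRegularLocalRing_stalk_of_smooth_field (X ↘ Spec (CommRingCat.of k)) _)
  obtain ⟨A, hA, hdegA, -⟩ := CurveRR.exists_point_inverse (k := k) hcl hI
  obtain ⟨a, ha, -⟩ := (RefDiv.lat_of_isInvertible hA).gen
  have key : ∀ (L : X.Modules), PicF.IsInvertible L → ∀ s : St L, s ≠ 0 → ∃ N : ℕ, ∀ n : ℕ, N ≤ n →
      2 * (FunFld.genus k X.functionField : ℤ) - 1 ≤ (divOf hC L s).deg + n * (divOf hC A a).deg →
      (Curv2.deg k X L 1 + n - Curv2.genus k X : ℤ) =
        (divOf hC L s).deg + n * (divOf hC A a).deg - FunFld.genus k X.functionField := by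
    intro L hL s hs
    refine ⟨(2 * (Curv2.genus k X : ℤ) - 1 - Curv2.deg k X L 1).toNat, fun n hn hbig => ?_⟩
    obtain ⟨w, hw, hwD⟩ := exists_divOf_pow hC hA ha n
    have hAn := TMul.isInvertible_tensorPow hA n
    have hT := TMul.isInvertible_tensorMod hL hAn
    obtain ⟨v, hv, hvD⟩ := exists_divOf_tensor hC hL hAn hs hw
    have hd : Curv2.deg k X (CohB1.tensorMod L (CohB1.tensorPow A n)) 1 = Curv2.deg k X L 1 + n := by
      rw [CurveRR.deg_tensor_inv hdim hL hAn, CurveRR.deg_tensorPow hdim hA, hdegA, mul_one]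
    have h1 := CurveRR.h0_eq_of_deg (k := k) hdim h0 hT (by omega)
    have hD : (divOf hC _ v).deg = (divOf hC L s).deg + n * (divOf hC A a).deg := by
      rw [hvD, FunFld.deg_add, hwD, FunFld.deg_nsmul]
    have h2 := FunFld.ell_eq_of_deg_ge hK (D := divOf hC _ v) (by rw [hD]; exact hbig)
    rw [h_eq_ell hC hT hv, h2, hD, hd] at h1
    linarith
  obtain ⟨o, ho, hoD⟩ := exists_divOf_structure hC
  obtain ⟨N₀, hN₀⟩ := key _ TMul.isInvertible_structureModule o ho
  have hA1 : (divOf hC A a).deg = 1 := by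
    by_contra hne
    obtain ⟨Nₐ, hNₐ⟩ := key A hA a ha
    rcases le_or_gt (divOf hC A a).deg 0 with hle | hgt
    · -- nonpositive degree would bound sections of high powers
      have hell : ∀ D : FunFld.Divisor k X.functionField, D.deg ≤ 0 → FunFld.ell D ≤ 1 := by
        intro D hD
        by_contra hlt
        obtain ⟨x, hx0, hx⟩ := FunFld.exists_pos_of_ell hK (D := D) (by omega)
        have h1 := (FunFld.deg_eq_zero_iff hK hx).1
        have h2 : (D + _root_.FunFld.div k x).deg = D.deg := by rw [FunFld.deg_add, FunFld.deg_div hK, add_zero]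
        have h3 : 0 ≤ (D + _root_.FunFld.div k x).deg := FunFld.deg_nonneg hx
        rw [← FunFld.ell_add_div hK D hx0, h1 (by omega), FunFld.ell_zero hK] at hlt
        omega
      have hbig : ∀ n : ℕ, CurveRR.h k (CohB1.tensorPow A n) 0 ≤ 1 := by
        intro n
        obtain ⟨w, hw, hwD⟩ := exists_divOf_pow hC hA ha n
        rw [h_eq_ell hC (TMul.isInvertible_tensorPow hA n) hw, hwD]
        exact hell _ (by rw [FunFld.deg_nsmul]; exact mul_nonpos_of_nonneg_of_nonpos (Int.natCast_nonneg n) hle)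
      have := hbig (2 * Curv2.genus k X + 2)
      rw [← Nat.cast_le (α := ℤ), CurveRR.h0_eq_of_deg (k := k) hdim h0 (TMul.isInvertible_tensorPow hA _) (by
        rw [CurveRR.deg_tensorPow hdim hA, hdegA]; push_cast; omega), CurveRR.deg_tensorPow hdim hA, hdegA] at this
      push_cast at this
      omega
    · obtain ⟨n, hn1, hn2⟩ : ∃ n : ℕ, N₀ ≤ n ∧ 2 * FunFld.genus k X.functionField ≤ n :=
        ⟨N₀ + 2 * FunFld.genus k X.functionField, by omega, by omega⟩
      have e1 := hN₀ n hn1 (by rw [hoD]; rw [FunFld.deg_zero]; nlinarith)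
      have e2 := hN₀ (n + 1) (by omega)
        (by rw [hoD]; rw [FunFld.deg_zero]; push_cast; nlinarith)
      push_cast at e1 e2
      exact hne (by linarith)
  have hg : Curv2.genus k X = FunFld.genus k X.functionField := by
    have e1 := hN₀ (N₀ + 2 * FunFld.genus k X.functionField) (by omega)
      (by rw [hoD, hA1]; rw [FunFld.deg_zero]; push_cast; omega)
    rw [hA1, hoD, CurveRR.deg_structure] at e1
    rw [FunFld.deg_zero] at e1
    omega
  refine ⟨hg, fun L hL s hs => ?_⟩
  obtain ⟨N, hN⟩ := key L hL s hs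
  have e1 := hN (N + (2 * (FunFld.genus k X.functionField : ℤ) - 1 - (divOf hC L s).deg).toNat) (by omega)
    (by rw [hA1]; push_cast; omega)
  rw [hA1, ← hg] at e1
  omega

end Groth.Agent.CurveOmega
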