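import Groth.Agent.CurveOmega.Closed
import Groth.Agent.CurveRR.GlobGen
import Groth.Agent.CurveRR.Clifford
import Groth.Agent.CurveRR.Pencil
import Groth.Agent.NegTwist.Main

/-!
Serre duality dimensions with the sheaf of differentials on a smooth proper curve over an algebraically
closed field, and base point freeness of the canonical series.
-/

set_option autoImplicit false
set_option backward.isDefEq.respectTransparency false
set_option linter.style.haveILetI false

universe u

open CategoryTheory CategoryTheory.Limits AlgebraicGeometry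
open Groth.Agent.CohFinite
open Groth.Agent.RefDiv (St)

noncomputable section

namespace Groth.Agent.CurveOmega

attribute [local instance] kAlg

variable (k : Type u) [Field k] [IsAlgClosed k] (X : Scheme.{u}) [X.Over (Spec (CommRingCat.of k))]
variable (hC : Curve.IsSmoothProperCurve k X (X ↘ Spec (CommRingCat.of k)))
include hC

/-- `h¹(L) = h⁰(Ω ⊗ L⁻¹)`. -/
theorem h1_eq {L M : X.Modules} (hL : PicF.IsInvertible L)
    (e : CohB1.tensorMod L M ≅ Coh.structureModule X) :
    CurveRR.h k L 1 = CurveRR.h k (CohB1.tensorMod (Omega.sheaf (X ↘ Spec (CommRingCat.of k))) M) 0 := by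
  haveI := hC.1
  haveI := hC.2.2.1
  haveI := quasiSeparated k X hC
  haveI := instNoeth hC
  have hK := isFunctionField hC
  obtain ⟨hg, hall⟩ := deg_genus hC
  have hd := OmegaLib.isUniversal_dOmega (X ↘ Spec (CommRingCat.of k))
  have hI := isInvertible hC hd
  have hM := NegTwist.isInvertible_inverse hL e
  have hT := TMul.isInvertible_tensorMod hL hM
  obtain ⟨s, hs, hcan, -, -⟩ := exists_canonical hC hd
  obtain ⟨l, hl, -⟩ := (RefDiv.lat_of_isInvertible hL).gen
  obtain ⟨m, hm, -⟩ := (RefDiv.lat_of_isInvertible hM).gen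
  obtain ⟨w, hw, hwD⟩ := exists_divOf_tensor hC hI hM hs hm
  obtain ⟨v, hv, hvD⟩ := exists_divOf_tensor hC hL hM hl hm
  obtain ⟨o, ho, hoD⟩ := exists_divOf_structure hC
  have lO := RefDiv.lat_of_isInvertible (TMul.isInvertible_structureModule (X := X))
  obtain ⟨c, hc⟩ := lO.exists_smul ho (RefHull.stalkMapₗ e.hom (genericPoint X) v)
  have hv' : RefHull.stalkMapₗ e.hom (genericPoint X) v ≠ 0 := fun h0 =>
    hv ((RefDiv.stalkMap_iso_bijective e _).1 (h0.trans (map_zero _).symm))
  have hc0 : c ≠ 0 := fun h0 => hv' (by rw [← hc, h0]; exact zero_smul X.functionField o)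
  have hprin : divOf hC L l + divOf hC M m = _root_.FunFld.div k c := Finsupp.ext fun P => by
    rw [← hvD, divOf_apply hC hT hv, FunFld.div_apply hK]
    show RefDiv.dv _ (pt hC P) v = _
    rw [← RefDiv.dv_iso (normal hC) (RefDiv.lat_of_isInvertible hT) lO e hv (coheight_pt hC P), ← hc,
      RefDiv.dv_smul (normal hC) lO ho hc0 (coheight_pt hC P), ord_pt hC P hc0]
    have := congrArg (fun E : FunFld.Divisor k X.functionField => E P) hoD
    simp only [divOf_apply hC TMul.isInvertible_structureModule ho, Finsupp.coe_zero, Pi.zero_apply] at this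
    change RefDiv.dv _ (pt hC P) o = 0 at this
    rw [this, add_zero]
  have hrr := FunFld.riemann_roch hK hcan (divOf hC L l)
  have hell : FunFld.ell (divOf hC (Omega.sheaf (X ↘ Spec (CommRingCat.of k))) s - divOf hC L l) =
      CurveRR.h k (CohB1.tensorMod (Omega.sheaf (X ↘ Spec (CommRingCat.of k))) M) 0 := by
    rw [h_eq_ell hC (TMul.isInvertible_tensorMod hI hM) hw, hwD,
      show divOf hC M m = -divOf hC L l + _root_.FunFld.div k c from by rw [← hprin]; abel,
      ← add_assoc, FunFld.ell_add_div hK _ hc0, sub_eq_add_neg]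
  have heu := hall L hL l hl
  rw [Curv2.deg, CurveRR.euler_eq hC.2.2.2.le,
    CurveRR.euler_structure hC.2.2.2.le (CurveRR.h0_structure k X), h_eq_ell hC hL hl, hg] at heu
  push_cast at heu
  omega

/-- The canonical series of a curve of positive genus has no base points. -/
theorem isGloballyGenerated_omega (hg : 1 ≤ Curv2.genus k X) :
    Curv2.IsGloballyGenerated (Omega.sheaf (X ↘ Spec (CommRingCat.of k))) := by
  haveI := hC.1
  haveI := hC.2.2.1
  haveI : Smooth (X ↘ Spec (CommRingCat.of k)) := hC.2.1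
  haveI := instNoeth hC
  haveI := CurveRR.isNoetherian_of_proper k X
  obtain ⟨hI, hh0, hdeg, -⟩ := omega_facts k X hC
  have hdim := hC.2.2.2.le
  have h0 := CurveRR.h0_structure k X
  refine CurveRR.isGloballyGenerated_of_closed hI fun P hP => ?_
  by_contra hno
  have hIP := CurveRR.isInvertible_pointIdeal hdim hP (Ne.symm (CurveFF.ne_generic hC hP))
    (SmLocalST.isRegularLocalRing_stalk_of_smooth_field (X ↘ Spec (CommRingCat.of k)) _)
  obtain ⟨hle, hle1, hiff⟩ := CurveRR.h0_pointIdeal (k := k) hP hI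
  have he := CurveRR.euler_pointIdeal (k := k) hP hI
  set N := CohB1.tensorMod (ClSub.idealMod (Scheme.IdealSheafData.vanishingIdeal ⟨{P}, hP⟩))
    (Omega.sheaf (X ↘ Spec (CommRingCat.of k))) with hNdef
  have hN : PicF.IsInvertible N := TMul.isInvertible_tensorMod hIP hI
  have hne : ¬ CurveRR.h k N 0 + 1 = CurveRR.h k (Omega.sheaf (X ↘ Spec (CommRingCat.of k))) 0 :=
    fun h => hno (hiff.1 h)
  obtain ⟨M, hM, ⟨e⟩⟩ := W7Hull.exists_tensor_inverse hN
  have h1 := h1_eq k X hC hN e
  have hdN : Curv2.deg k X N 1 = Curv2.deg k X (Omega.sheaf (X ↘ Spec (CommRingCat.of k))) 1 - 1 := by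
    rw [Curv2.deg, Curv2.deg, he]; ring
  have hdA : Curv2.deg k X (CohB1.tensorMod (Omega.sheaf (X ↘ Spec (CommRingCat.of k))) M) 1 = 1 := by
    rw [CurveRR.deg_tensor_inv hdim hI hM]
    have h2 := CurveRR.deg_tensor_inv (k := k) hdim hN hM
    have h3 : Curv2.deg k X (CohB1.tensorMod N M) 1 = 0 := by
      rw [Curv2.deg, CurveRR.euler_eq_of_iso e]
      exact CurveRR.deg_structure
    omega
  have h2 : 2 ≤ CurveRR.h k (CohB1.tensorMod (Omega.sheaf (X ↘ Spec (CommRingCat.of k))) M) 0 := by
    rw [← h1]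
    have h4 := hdN
    rw [hdeg, Curv2.deg, CurveRR.euler_eq hdim, CurveRR.euler_structure hdim h0] at h4
    push_cast at h4
    omega
  have := CurveRR.two_le_deg (k := k) hdim hg (TMul.isInvertible_tensorMod hI hM) h2
  omega

end Groth.Agent.CurveOmega
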