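import Groth.Agent.CurveOmega.VeryAmpleCrit
import Groth.Agent.CurveOmega.Duality
import Groth.Prelude.Def_LinSer
import Mathlib

/-!
The canonical module is very ample exactly on non-hyperelliptic curves.
-/

set_option autoImplicit false
set_option backward.isDefEq.respectTransparency false
set_option linter.style.haveILetI false
set_option maxHeartbeats 1000000

universe u

open CategoryTheory CategoryTheory.Limits AlgebraicGeometry TopologicalSpace Opposite
open Groth.Agent.CohFinite Groth.Agent.CurveRR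
open Groth.Agent.QC (res resO res_self resO_self)
open TMul (IsGen homOf val_homOf tm)

noncomputable section

namespace Groth.Agent.CurveOmega

attribute [local instance] secMod

variable {k : Type u} [Field k] [IsAlgClosed k] {X : Scheme.{u}} [X.Over (Spec (CommRingCat.of k))] [IsIntegral X]
  [IsProper (X ↘ Spec (CommRingCat.of k))] [Smooth (X ↘ Spec (CommRingCat.of k))]
  (hdim : topologicalKrullDim X = 1)

include hdim in
/-- Riemann-Roch and duality for `O(P + Q)`. -/
theorem h0_omega_two {P Q : X} (hP : IsClosed ({P} : Set X)) (hQ : IsClosed ({Q} : Set X)) {M : X.Modules}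
    (hM : PicF.IsInvertible M)
    (e : CohB1.tensorMod M (CohB1.tensorMod (ClSub.idealMod (Scheme.IdealSheafData.vanishingIdeal ⟨{P}, hP⟩))
      (ClSub.idealMod (Scheme.IdealSheafData.vanishingIdeal ⟨{Q}, hQ⟩))) ≅ Coh.structureModule X) :
    Curv2.deg k X M 1 = 2 ∧ h k (CohB1.tensorMod (Omega.sheaf (X ↘ Spec (CommRingCat.of k)))
      (CohB1.tensorMod (ClSub.idealMod (Scheme.IdealSheafData.vanishingIdeal ⟨{P}, hP⟩))
        (ClSub.idealMod (Scheme.IdealSheafData.vanishingIdeal ⟨{Q}, hQ⟩)))) 0 + 3 = h k M 0 + Curv2.genus k X := by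
  haveI := isNoetherian_of_proper k X
  have hC : Curve.IsSmoothProperCurve k X (X ↘ Spec (CommRingCat.of k)) :=
    ⟨inferInstance, inferInstance, inferInstance, hdim⟩
  have hIinv : ∀ {R : X} (hR : IsClosed ({R} : Set X)),
      PicF.IsInvertible (ClSub.idealMod (Scheme.IdealSheafData.vanishingIdeal ⟨{R}, hR⟩)) := fun {R} hR =>
    isInvertible_pointIdeal hdim.le hR (genericPoint_ne_of_closed (k := k) hdim hR)
      (SmLocalST.isRegularLocalRing_stalk_of_smooth_field (X ↘ Spec (CommRingCat.of k)) _)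
  have hd1 : ∀ {R : X} (hR : IsClosed ({R} : Set X)),
      Curv2.deg k X (ClSub.idealMod (Scheme.IdealSheafData.vanishingIdeal ⟨{R}, hR⟩)) 1 = -1 := fun {R} hR => by
    have h1 := euler_pointIdeal (k := k) hR (TMul.isInvertible_structureModule (X := X))
    have h2 := deg_tensor_inv (k := k) hdim.le (hIinv hR) (TMul.isInvertible_structureModule (X := X))
    rw [deg_structure, add_zero, Curv2.deg, h1] at h2
    rw [← h2]
    ring
  have hIT := TMul.isInvertible_tensorMod (hIinv hP) (hIinv hQ)
  have hdM : Curv2.deg k X M 1 = 2 := by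
    have h2 := deg_tensor_inv (k := k) hdim.le hM hIT
    rw [show Curv2.deg k X (CohB1.tensorMod M _) 1 = _ from by rw [Curv2.deg, euler_eq_of_iso e, ← Curv2.deg],
      deg_structure, deg_tensor_inv hdim.le (hIinv hP) (hIinv hQ), hd1 hP, hd1 hQ] at h2
    omega
  refine ⟨hdM, ?_⟩
  have h1 := h1_eq k X hC hM e
  have h3 := hdM
  rw [Curv2.deg, euler_eq hdim.le, euler_structure hdim.le (h0_structure k X), h1] at h3
  push_cast at h3
  omega

include hdim in
/-- The canonical module separates iff there is no pencil of degree two. -/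
theorem sep_omega_iff (hg : 2 ≤ Curv2.genus k X) :
    Sep k X (Omega.sheaf (X ↘ Spec (CommRingCat.of k))) ↔
      ∀ M : X.Modules, PicF.IsInvertible M → Curv2.deg k X M 1 = 2 → h k M 0 ≤ 1 := by
  haveI := isNoetherian_of_proper k X
  have hC : Curve.IsSmoothProperCurve k X (X ↘ Spec (CommRingCat.of k)) :=
    ⟨inferInstance, inferInstance, inferInstance, hdim⟩
  obtain ⟨hI, hgΩ, -, -⟩ := omega_facts k X hC
  have hIinv : ∀ {R : X} (hR : IsClosed ({R} : Set X)),
      PicF.IsInvertible (ClSub.idealMod (Scheme.IdealSheafData.vanishingIdeal ⟨{R}, hR⟩)) := fun {R} hR =>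
    isInvertible_pointIdeal hdim.le hR (genericPoint_ne_of_closed (k := k) hdim hR)
      (SmLocalST.isRegularLocalRing_stalk_of_smooth_field (X ↘ Spec (CommRingCat.of k)) _)
  constructor
  · intro hsep M hM hdM
    by_contra! h2
    obtain ⟨s, hs⟩ := exists_section (k := k) (L := M) (by omega)
    obtain ⟨P, hP, u, hu⟩ := exists_vanish (k := k) hdim hM s hs (by omega)
    have hPM := TMul.isInvertible_tensorMod (hIinv hP) hM
    have hd1 : Curv2.deg k X (CohB1.tensorMod (ClSub.idealMod (Scheme.IdealSheafData.vanishingIdeal ⟨{P}, hP⟩)) M) 1 = 1 := by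
      rw [Curv2.deg, euler_pointIdeal (k := k) hP hM]
      rw [Curv2.deg] at hdM
      linarith
    obtain ⟨Q, hQ, w, hw⟩ := exists_vanish (k := k) hdim hPM u hu (by omega)
    obtain ⟨-, hiso⟩ := deg_le_and_isIso (k := k) hdim.le TMul.isInvertible_structureModule
      (TMul.isInvertible_tensorMod (hIinv hQ) hPM) w hw
    haveI := hiso (by
      rw [deg_structure, Curv2.deg, euler_pointIdeal (k := k) hQ hPM]
      rw [Curv2.deg] at hd1
      linarith)
    have h3 := (h0_omega_two (k := k) hdim hP hQ hM (TMul.commIso M _ ≪≫ PicGrp.tensorModIso (TMul.commIso _ _) (Iso.refl M) ≪≫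
      TMul.assocIso _ _ M ≪≫ (asIso w).symm)).2
    have := hsep P Q hP hQ
    rw [hgΩ] at this
    omega
  · intro hall P Q hP hQ
    have hIT := TMul.isInvertible_tensorMod (hIinv hP) (hIinv hQ)
    obtain ⟨M, hM, ⟨θ⟩⟩ := W7Hull.exists_tensor_inverse hIT
    obtain ⟨hdM, h3⟩ := h0_omega_two (k := k) hdim hP hQ hM (TMul.commIso M _ ≪≫ θ)
    have h1 := hall M hM hdM
    have ha := (h0_pointIdeal (k := k) hP hI).2.1
    have hb := (h0_pointIdeal (k := k) hQ (TMul.isInvertible_tensorMod (hIinv hP) hI)).2.1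
    rw [← h_eq_of_iso (TMul.commIso (Omega.sheaf (X ↘ Spec (CommRingCat.of k))) _ ≪≫
      PicGrp.tensorModIso (TMul.commIso _ _) (Iso.refl (Omega.sheaf (X ↘ Spec (CommRingCat.of k)))) ≪≫
      TMul.assocIso _ _ (Omega.sheaf (X ↘ Spec (CommRingCat.of k)))) 0] at hb
    rw [hgΩ] at ha ⊢
    omega

end Groth.Agent.CurveOmega

namespace Groth.Agent.CurveOmega

attribute [local instance] secMod

/-- Pencils of degree two as linear series. -/
theorem exists_linSer_iff {k : Type u} [Field k] [IsAlgClosed k] {X : Scheme.{u}} [X.Over (Spec (CommRingCat.of k))]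
    [IsProper (X ↘ Spec (CommRingCat.of k))] [IsIntegral X] (d : ℕ) :
    (∃ (M : X.Modules) (s : Fin 2 → LinSer.Sect X M), LinSer.IsLinSer k X M d 1 s) ↔
      ∃ M : X.Modules, PicF.IsInvertible M ∧ Curv2.deg k X M 1 = d ∧ 2 ≤ h k M 0 := by
  haveI := isNoetherian_of_proper k X
  constructor
  · rintro ⟨M, s, hM, hd, hs⟩
    exact ⟨M, hM, hd, two_le_h0_of_linIndep k (isCoh_of_inv hM) s hs⟩
  · rintro ⟨M, hM, hd, h2⟩
    haveI := finite_proper k X _ (isCoh_of_inv hM) 0
    haveI : Module.Finite k Γ(M, ⊤) := Module.Finite.equiv (secH0 (k := k) M).symm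
    rw [← finrank_sec] at h2
    let b := Module.finBasis k Γ(M, ⊤)
    have hli := b.linearIndependent.comp (Fin.castLE h2) (Fin.castLE_injective h2)
    refine ⟨M, fun i => b (Fin.castLE h2 i), hM, hd, fun c hc => funext fun i => ?_⟩
    refine Fintype.linearIndependent_iff.mp hli c (Eq.trans (Finset.sum_congr rfl fun j _ => ?_) hc) i
    exact congrArg (fun r : Γ(X, ⊤) => r • b (Fin.castLE h2 j)) (resO_self (le_top : (⊤ : X.Opens) ≤ ⊤) _)

end Groth.Agent.CurveOmega
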