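import Groth.Agent.CurveOmega.CliffordDiv
import Groth.Agent.CurveOmega.Bridge
import Groth.Agent.CurveOmega.Closed
import Groth.Agent.RefDiv.Ideal
import Groth.Agent.CurveRR.Clifford
import Mathlib

/-!
Invertible modules with prescribed effective divisor, and the case of equality in Clifford's theorem.
-/

set_option autoImplicit false
set_option backward.isDefEq.respectTransparency false
set_option linter.style.haveILetI false
set_option linter.unusedSectionVars false

universe u

open CategoryTheory CategoryTheory.Limits AlgebraicGeometry TopologicalSpace Opposite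
open Groth.Agent.RefDiv (St dv Lat HasDiv idl FinSupp)

noncomputable section

namespace Groth.Agent.CurveOmega

attribute [local instance] kAlg

variable {k : Type u} [Field k] [IsAlgClosed k] {X : Scheme.{u}} [X.Over (Spec (CommRingCat.of k))] [IsIntegral X]
  [IsLocallyNoetherian X]
  (hC : Curve.IsSmoothProperCurve k X (X ↘ Spec (CommRingCat.of k)))
include hC

/-- A rank one lattice on a smooth curve is invertible. -/
theorem isInvertible_of_lat {M : X.Modules} (h : Lat M) : PicF.IsInvertible M := by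
  refine InvGen.isInvertible fun x => ?_
  by_cases hx : x = genericPoint X
  · obtain ⟨W, hW, e, he⟩ := h.exists_isGen_generic
    exact ⟨W, e, hx ▸ hW, he⟩
  · obtain ⟨m, hm⟩ := h.exists_span (normal hC) (coheight_eq_one hC (CurveFF.isClosed_of_ne_generic hC hx))
    obtain ⟨W, hxW, e, -, he⟩ := h.exists_isGen hm
    exact ⟨W, e, hxW, he⟩

/-- Effective divisors are divisors of invertible modules. -/
theorem exists_inv_of_effective (D : FunFld.Divisor k X.functionField) (hD : 0 ≤ D) :
    ∃ (L : X.Modules) (s : St L), PicF.IsInvertible L ∧ s ≠ 0 ∧ divOf hC L s = D := by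
  classical
  let E : X → ℕ := fun x => if hx : IsClosed ({x} : Set X) then (D (CurveFF.pointEquiv hC ⟨x, hx⟩)).toNat else 0
  have hEpt : ∀ P, E (pt hC P) = (D P).toNat := fun P => by
    simp only [E, dif_pos (isClosed_pt hC P)]
    rw [show CurveFF.pointEquiv hC ⟨pt hC P, isClosed_pt hC P⟩ = P from
      (CurveFF.pointEquiv hC).apply_symm_apply P]
  have hfin : FinSupp E := fun U _ => (D.support.finite_toSet.image (pt hC)).subset fun x hx => by
    obtain ⟨-, -, hx⟩ := hx
    by_cases hcl : IsClosed ({x} : Set X)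
    · refine ⟨CurveFF.pointEquiv hC ⟨x, hcl⟩, ?_, congrArg Subtype.val ((CurveFF.pointEquiv hC).symm_apply_apply _)⟩
      rw [Finset.mem_coe, Finsupp.mem_support_iff]
      intro h0
      simp [E, hcl, h0] at hx
    · simp [E, hcl] at hx
  obtain ⟨s, hs, hsD⟩ := RefDiv.hasDiv_dual (normal hC) (RefDiv.lat_idl hfin) (RefDiv.hasDiv_idl (normal hC) hfin)
  have hinv := isInvertible_of_lat hC (RefDiv.lat_dual (RefDiv.lat_idl hfin))
  refine ⟨_, s, hinv, hs, Finsupp.ext fun P => ?_⟩
  rw [divOf_apply hC hinv hs]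
  show dv _ (pt hC P) s = _
  rw [hsD _ (coheight_pt hC P)]
  beta_reduce
  rw [hEpt P]
  have := hD P
  simp only [Finsupp.coe_zero, Pi.zero_apply] at this
  omega

/-- `h⁰(A) + h⁰(B) ≤ h⁰(A ⊗ B) + 1`. -/
theorem h0_add_le_tensor {A B : X.Modules} (hA : PicF.IsInvertible A) (hB : PicF.IsInvertible B)
    (h0A : 0 < CurveRR.h k A 0) (h0B : 0 < CurveRR.h k B 0) :
    CurveRR.h k A 0 + CurveRR.h k B 0 ≤ CurveRR.h k (CohB1.tensorMod A B) 0 + 1 := by
  haveI := hC.1
  have hK := isFunctionField hC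
  obtain ⟨a, ha, -⟩ := (RefDiv.lat_of_isInvertible hA).gen
  obtain ⟨b, hb, -⟩ := (RefDiv.lat_of_isInvertible hB).gen
  obtain ⟨w, hw, hwD⟩ := exists_divOf_tensor hC hA hB ha hb
  rw [h_eq_ell hC hA ha] at h0A ⊢
  rw [h_eq_ell hC hB hb] at h0B ⊢
  rw [h_eq_ell hC (TMul.isInvertible_tensorMod hA hB) hw, hwD]
  exact Cliff.ell_add_ell_le hK h0A h0B

/-- Equality in Clifford's theorem gives a pencil of degree two. -/
theorem exists_pencil_of_eq {L : X.Modules} (hL : PicF.IsInvertible L) (h2 : 2 ≤ CurveRR.h k L 0)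
    (hsp : CurveRR.h k L 1 ≠ 0) (heq : 2 * (CurveRR.h k L 0 : ℤ) = Curv2.deg k X L 1 + 2)
    (hlt : Curv2.deg k X L 1 < 2 * (Curv2.genus k X : ℤ) - 2) :
    ∃ N : X.Modules, PicF.IsInvertible N ∧ Curv2.deg k X N 1 = 2 ∧ 2 ≤ CurveRR.h k N 0 := by
  haveI := hC.1
  have hK := isFunctionField hC
  obtain ⟨hg, hall⟩ := deg_genus hC
  obtain ⟨l, hl, -⟩ := (RefDiv.lat_of_isInvertible hL).gen
  obtain ⟨C, hCan⟩ := FunFld.exists_canonical hK
  have he : (CurveRR.h k L 0 : ℤ) - CurveRR.h k L 1 = Curv2.deg k X L 1 + 1 - Curv2.genus k X := by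
    rw [Curv2.deg, CurveRR.euler_eq hC.2.2.2.le, CurveRR.euler_structure hC.2.2.2.le (CurveRR.h0_structure k X)]
    push_cast
    ring
  have hrr := FunFld.riemann_roch hK hCan (divOf hC L l)
  rw [hall L hL l hl, ← hg, ← h_eq_ell hC hL hl] at hrr
  obtain ⟨F, hF, hFd, hF2⟩ := Cliff.exists_pencil_two hK hCan (CurveRR.h k L 0 - 1) (divOf hC L l)
    (by rw [hall L hL l hl]; omega) (by omega) (by rw [← h_eq_ell hC hL hl]; omega) (by omega)
    (by rw [hall L hL l hl, ← hg]; exact hlt)
  obtain ⟨N, s, hN, hs, hsF⟩ := exists_inv_of_effective hC F hF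
  exact ⟨N, hN, by rw [← hall N hN s hs, hsF, hFd], by rw [h_eq_ell hC hN hs, hsF]; exact hF2⟩

theorem h0_pow {N : X.Modules} (hN : PicF.IsInvertible N) (h2 : 2 ≤ CurveRR.h k N 0) (m : ℕ) :
    m + 1 ≤ CurveRR.h k (CohB1.tensorPow N m) 0 := by
  haveI := hC.1
  induction m with
  | zero => exact (CurveRR.h0_structure k X).ge
  | succ m ih =>
    have := h0_add_le_tensor hC (TMul.isInvertible_tensorPow hN m) hN (by omega) (by omega)
    show m + 1 + 1 ≤ CurveRR.h k (CohB1.tensorMod (CohB1.tensorPow N m) N) 0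
    omega

end Groth.Agent.CurveOmega
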