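import Groth.Agent.FunFld.Extra
import Groth.Agent.FunFld.Weil
import Groth.Agent.FunFld.Wr.Values
import Groth.Agent.CurveRR.Hopf
import Mathlib

/-!
Clifford's theorem for divisors of a function field, with the case of equality.
-/

set_option autoImplicit false
set_option backward.isDefEq.respectTransparency false
set_option linter.style.haveILetI false
set_option linter.unusedSectionVars false

universe u

open _root_.FunFld WithZero

noncomputable section

namespace Groth.Agent.CurveOmega.Cliff

variable {k K : Type u} [Field k] [IsAlgClosed k] [Field K] [Algebra k K] (hK : IsFunctionField k K)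

/-- Multiplication `L(A) × L(B) → L(A + B)`. -/
def mulL (A B : Divisor k K) : L A →ₗ[k] L B →ₗ[k] L (A + B) :=
  LinearMap.mk₂ k
    (fun x y => ⟨x.1 * y.1, fun P => by
      rw [map_mul, Finsupp.add_apply, WithZero.exp_add]
      exact mul_le_mul' (x.2 P) (y.2 P)⟩)
    (fun _ _ _ => Subtype.ext (add_mul _ _ _)) (fun _ _ _ => Subtype.ext (smul_mul_assoc _ _ _))
    (fun _ _ _ => Subtype.ext (mul_add _ _ _)) (fun _ _ _ => Subtype.ext (mul_smul_comm _ _ _))

include hK in
/-- `ℓ(A) + ℓ(B) ≤ ℓ(A + B) + 1` for divisors with sections. -/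
theorem ell_add_ell_le {A B : Divisor k K} (hA : 0 < ell A) (hB : 0 < ell B) :
    ell A + ell B ≤ ell (A + B) + 1 := by
  haveI := FunFld.L_finite hK A
  haveI := FunFld.L_finite hK B
  haveI := FunFld.L_finite hK (A + B)
  haveI : Nontrivial (L A) := Module.nontrivial_of_finrank_pos (R := k) hA
  haveI : Nontrivial (L B) := Module.nontrivial_of_finrank_pos (R := k) hB
  exact CurveRR.finrank_add_le_of_no_zero_divisors (mulL A B) fun v w h => by
    rcases mul_eq_zero.mp (congrArg Subtype.val h) with h | h
    · exact Or.inl (Subtype.ext h)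
    · exact Or.inr (Subtype.ext h)

include hK in
/-- `ℓ` is supermodular. -/
theorem ell_sup_inf (A B : Divisor k K) : ell A + ell B ≤ ell (A ⊔ B) + ell (A ⊓ B) := by
  haveI := FunFld.L_finite hK A
  haveI := FunFld.L_finite hK B
  haveI := FunFld.L_finite hK (A ⊔ B)
  haveI := FunFld.L_finite hK (A ⊓ B)
  have h := Submodule.finrank_sup_add_finrank_inf_eq (L A) (L B)
  have hle : L A ⊔ L B ≤ L (A ⊔ B) := sup_le (FunFld.L_mono le_sup_left) (FunFld.L_mono le_sup_right)
  have hle' : L A ⊓ L B ≤ L (A ⊓ B) := fun x hx P => by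
    rw [Finsupp.inf_apply]
    rcases le_total (A P) (B P) with h' | h'
    · rw [inf_of_le_left h']; exact hx.1 P
    · rw [inf_of_le_right h']; exact hx.2 P
  have h1 := Submodule.finrank_mono hle
  have h2 := Submodule.finrank_mono hle'
  simp only [ell]
  omega

variable {C : Divisor k K} (hC : IsCanonical k K C)

include hK hC in
/-- Clifford: `ℓ(D) + ℓ(C - D) ≤ g + 1` for special divisors with sections. -/
theorem ell_add_ell_sub_le {D : Divisor k K} (h0 : 0 < ell D) (h1 : 0 < ell (C - D)) :
    ell D + ell (C - D) ≤ genus k K + 1 := by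
  have h := ell_add_ell_le hK h0 h1
  rwa [add_sub_cancel, (FunFld.ell_canonical hK hC).1] at h

include hK in
theorem one_le_ell_of_nonneg {D : Divisor k K} (h : 0 ≤ D) : 1 ≤ ell D := by
  rw [← FunFld.ell_zero hK]; exact FunFld.ell_mono hK h

include hK in
/-- A point lowers `ℓ` by at most one. -/
theorem ell_le_sub_single (D : Divisor k K) (P : Place k K) : ell D ≤ ell (D - Finsupp.single P 1) + 1 := by
  have h := FunFld.ell_sub_le hK (show D - Finsupp.single P 1 ≤ D from
    sub_le_self _ (Finsupp.single_nonneg.2 zero_le_one))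
  rw [FunFld.deg_sub, FunFld.deg_single, FunFld.deg_eq_one hK P] at h
  push_cast at h
  omega

include hK hC in
/-- Equality in Clifford's theorem produces a pencil of degree two. -/
theorem exists_pencil_two (n : ℕ) : ∀ D : Divisor k K, D.deg = 2 * (n : ℤ) → 1 ≤ n → n + 1 ≤ ell D →
    0 < ell (C - D) → D.deg < 2 * (genus k K : ℤ) - 2 →
    ∃ F : Divisor k K, 0 ≤ F ∧ F.deg = 2 ∧ 2 ≤ ell F := by
  classical
  induction n using Nat.strong_induction_on with
  | _ n ih =>
    intro D hd hn hell hsp hlt
    by_cases h1 : n = 1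
    · subst h1
      obtain ⟨x, hx0, hx⟩ := FunFld.exists_pos_of_ell hK (D := D) (by omega)
      refine ⟨_, hx, ?_, by rw [FunFld.ell_add_div hK D hx0]; omega⟩
      rw [FunFld.deg_add, FunFld.deg_div hK, add_zero, hd]; rfl
    obtain ⟨y, hy0, hE⟩ := FunFld.exists_pos_of_ell hK hsp
    set E := C - D + _root_.FunFld.div k y with hEdef
    have hEdeg : 0 < E.deg := by
      rw [hEdef, FunFld.deg_add, FunFld.deg_div hK, add_zero, FunFld.deg_sub, (FunFld.ell_canonical hK hC).2]
      omega
    obtain ⟨P, hP⟩ : ∃ P, 0 < E P := by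
      by_contra! hall
      have : E = 0 := Finsupp.ext fun P => le_antisymm (hall P) (hE P)
      rw [this, FunFld.deg_zero] at hEdeg
      exact lt_irrefl _ hEdeg
    obtain ⟨Q, hQ⟩ : ∃ Q : Place k K, E Q = 0 := by
      obtain ⟨Q, hQ⟩ := FunFld.exists_place_avoid hK E.support
      exact ⟨Q, Finsupp.notMem_support_iff.mp hQ⟩
    have hPQ : P ≠ Q := fun h => by rw [h] at hP; omega
    have h2 := ell_le_sub_single hK D P
    have h3 := ell_le_sub_single hK (D - Finsupp.single P 1) Q
    obtain ⟨x, hx0, hx⟩ := FunFld.exists_pos_of_ell hK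
      (D := D - Finsupp.single P 1 - Finsupp.single Q 1) (by omega)
    set D' := D + _root_.FunFld.div k x with hD'def
    have hx' : ∀ R, (Finsupp.single P (1 : ℤ)) R + (Finsupp.single Q (1 : ℤ)) R ≤ D' R := fun R => by
      have := hx R
      simp only [hD'def, Finsupp.add_apply, Finsupp.sub_apply, Finsupp.coe_zero, Pi.zero_apply] at this ⊢
      omega
    have hD'nn : 0 ≤ D' := fun R => by
      have := hx' R
      have e1 : (0 : ℤ) ≤ (Finsupp.single P (1 : ℤ)) R := by rw [Finsupp.single_apply]; split_ifs <;> omega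
      have e2 : (0 : ℤ) ≤ (Finsupp.single Q (1 : ℤ)) R := by rw [Finsupp.single_apply]; split_ifs <;> omega
      simp only [Finsupp.coe_zero, Pi.zero_apply]
      omega
    have hD'P : 1 ≤ D' P := by
      have := hx' P
      rw [Finsupp.single_eq_same, Finsupp.single_eq_of_ne hPQ] at this
      omega
    have hD'Q : 1 ≤ D' Q := by
      have := hx' Q
      rw [Finsupp.single_eq_same, Finsupp.single_eq_of_ne hPQ.symm] at this
      omega
    have hFP : Finsupp.single P (1 : ℤ) ≤ D' ⊓ E := fun R => by
      rw [Finsupp.inf_apply, Finsupp.single_apply]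
      split_ifs with h
      · subst h; exact le_inf hD'P hP
      · exact le_inf (hD'nn R) (hE R)
    have hFQ : D' ⊓ E ≤ D' - Finsupp.single Q 1 := fun R => by
      rw [Finsupp.inf_apply, Finsupp.sub_apply, Finsupp.single_apply]
      split_ifs with h
      · subst h; exact inf_le_right.trans (by omega)
      · rw [sub_zero]; exact inf_le_left
    set F := D' ⊓ E with hFdef
    have hFnn : 0 ≤ F := le_inf hD'nn hE
    have hFdeg1 : 1 ≤ F.deg := by
      have := FunFld.deg_nonneg (D := F - Finsupp.single P 1) (sub_nonneg.2 hFP)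
      rw [FunFld.deg_sub, FunFld.deg_single, FunFld.deg_eq_one hK P] at this
      push_cast at this
      omega
    have hFdeg2 : F.deg ≤ D.deg - 1 := by
      have := FunFld.deg_nonneg (D := D' - Finsupp.single Q 1 - F) (sub_nonneg.2 hFQ)
      rw [FunFld.deg_sub, FunFld.deg_sub, FunFld.deg_single, FunFld.deg_eq_one hK Q, hD'def, FunFld.deg_add,
        FunFld.deg_div hK] at this
      push_cast at this
      omega
    have hsup : D' ⊔ E = C - F + _root_.FunFld.div k (x * y) := by
      ext R
      rw [FunFld.div_mul hK hx0 hy0]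
      simp only [hFdef, Finsupp.sup_apply, Finsupp.inf_apply, Finsupp.sub_apply, Finsupp.add_apply, hD'def, hEdef]
      omega
    have hmain := ell_sup_inf hK D' E
    rw [hsup, FunFld.ell_add_div hK (C - F) (mul_ne_zero hx0 hy0), hD'def, FunFld.ell_add_div hK D hx0, hEdef,
      FunFld.ell_add_div hK (C - D) hy0] at hmain
    rw [← hD'def, ← hEdef, ← hFdef] at hmain
    have hF0 : 0 < ell F := one_le_ell_of_nonneg hK hFnn
    have hCF : 0 < ell (C - F) := by
      rw [← FunFld.ell_add_div hK (C - F) (mul_ne_zero hx0 hy0), ← hsup]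
      exact (one_le_ell_of_nonneg hK (hD'nn.trans le_sup_left))
    have hle := ell_add_ell_sub_le hK hC hF0 hCF
    have hrF := FunFld.riemann_roch hK hC F
    have hrD := FunFld.riemann_roch hK hC D
    have hle' := ell_add_ell_sub_le hK hC (show 0 < ell D by omega) hsp
    obtain ⟨m, hm⟩ : ∃ m : ℕ, F.deg = 2 * (m : ℤ) := ⟨ell F - 1, by omega⟩
    exact ih m (by omega) F hm (by omega) (by omega) hCF (by omega)

end Groth.Agent.CurveOmega.Cliff
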