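import Groth.Agent.CurveOmega.General
import Groth.Agent.CurveRR.Ample
import Groth.Agent.SmProper.Basic
import Groth.Agent.InfLift.SmoothLift
import Groth.Agent.OmegaLib.Universal
import Mathlib.RingTheory.Etale.Field

/-!
The differentials of a smooth proper irreducible curve of genus at least two, whatever its field of constants, are
ample.
-/

set_option autoImplicit false
set_option backward.isDefEq.respectTransparency false
set_option backward.isDefEq.respectTransparency.types false
set_option linter.style.haveILetI false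
set_option linter.unusedSectionVars false

universe u

open CategoryTheory CategoryTheory.Limits AlgebraicGeometry TopologicalSpace Opposite
open Groth.Agent.CohFinite
open Groth.Agent.QC (resO_self)

noncomputable section

namespace Groth.Agent.CurveOmega

section Transfer

variable {X Y Z : Scheme.{u}} (q : X ⟶ Y) (e : Y ⟶ Z)

/-- A derivation over `Y` is one over `Z`. -/
def derDown {F : X.Modules} (D : OmegaSh.Der q F) : OmegaSh.Der (q ≫ e) F where
  d := D.d
  d_mul := D.d_mul
  d_map := D.d_map
  d_app {V} c := D.d_app (X := op (e ⁻¹ᵁ V.unop)) (e.app V.unop c)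

/-- Universality passes along an intermediate base whose functions all derivations kill. -/
theorem exists_universal_of_kill {Ω : X.Modules} {d : OmegaSh.Der (q ≫ e) Ω} (hd : OmegaSh.IsUniversal d)
    (hkill : ∀ (F : X.Modules) (D : OmegaSh.Der (q ≫ e) F) (V : Y.Opens) (c : Γ(Y, V)),
      D.app (q ⁻¹ᵁ V) (q.app V c) = 0) :
    ∃ d' : OmegaSh.Der q Ω, OmegaSh.IsUniversal d' := by
  let up : ∀ {F : X.Modules}, OmegaSh.Der (q ≫ e) F → OmegaSh.Der q F := fun {F} D =>
    { d := D.d
      d_mul := D.d_mul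
      d_map := D.d_map
      d_app := fun {V} c => hkill F D V.unop c }
  refine ⟨up d, fun F D => ?_⟩
  obtain ⟨α, hα, huniq⟩ := hd F (derDown q e D)
  refine ⟨α, OmegaLib.der_ext fun U s => ?_, fun β hβ => huniq β (OmegaLib.der_ext fun U s => ?_)⟩
  · exact congrArg (fun E : OmegaSh.Der (q ≫ e) F => E.app U s) hα
  · exact congrArg (fun E : OmegaSh.Der q F => E.app U s) hβ

end Transfer

variable (k : Type u) [Field k] {X : Scheme.{u}} [X.Over (Spec (CommRingCat.of k))]
  [IsProper (X ↘ Spec (CommRingCat.of k))] [Smooth (X ↘ Spec (CommRingCat.of k))]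

omit [X.Over (Spec (CommRingCat.of k))] [IsProper (X ↘ Spec (CommRingCat.of k))] [Smooth (X ↘ Spec (CommRingCat.of k))] in
/-- The scalars of a composite with a map of spectra. -/
theorem toGlobal_comp {K : Type u} [CommRing K] (φ : k →+* K) (q : X ⟶ Spec (CommRingCat.of K)) (a : k) :
    Coh.toGlobal (q ≫ Spec.map (CommRingCat.ofHom φ)) a = Coh.toGlobal q (φ a) := by
  have h := congrArg (fun g => g.hom a) (Scheme.ΓSpecIso_inv_naturality (CommRingCat.ofHom φ))
  simp only [CommRingCat.hom_comp, CommRingCat.hom_ofHom, RingHom.comp_apply] at h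
  simp only [Coh.toGlobal, RingHom.comp_apply, Scheme.Hom.comp_appTop, CommRingCat.hom_comp, RingHom.comp_apply]
  exact congrArg _ h.symm

omit [X.Over (Spec (CommRingCat.of k))] [IsProper (X ↘ Spec (CommRingCat.of k))] [Smooth (X ↘ Spec (CommRingCat.of k))] in
/-- The case of a known field of constants. -/
theorem isAmple_omega_of_const [IsIntegral X] {K : Type u} [Field K] (φ : k →+* K) (hφ : φ.Etale)
    (q : X ⟶ Spec (CommRingCat.of K)) (hK : Function.Bijective (Coh.toGlobal q))
    [IsProper (q ≫ Spec.map (CommRingCat.ofHom φ))] [Smooth (q ≫ Spec.map (CommRingCat.ofHom φ))]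
    (hdim : topologicalKrullDim X = 1)
    (hg : letI : X.Over (Spec (CommRingCat.of k)) := ⟨q ≫ Spec.map (CommRingCat.ofHom φ)⟩
      CurveRR.h k (Coh.structureModule X) 0 < CurveRR.h k (Coh.structureModule X) 1) :
    CohB1.IsAmple (Omega.sheaf (q ≫ Spec.map (CommRingCat.ofHom φ))) := by
  haveI : Etale (Spec.map (CommRingCat.ofHom φ)) := HasRingHomProperty.Spec_iff.mpr hφ
  haveI hqp : IsProper q := MorphismProperty.of_postcomp (W := @IsProper) (W' := @IsSeparated) q
    (Spec.map (CommRingCat.ofHom φ)) inferInstance inferInstance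
  haveI hqs : Smooth q := InfLift.smooth_of_comp_etale q (Spec.map (CommRingCat.ofHom φ))
  letI ik : X.Over (Spec (CommRingCat.of k)) := ⟨q ≫ Spec.map (CommRingCat.ofHom φ)⟩
  letI iX : X.Over (Spec (CommRingCat.of K)) := ⟨q⟩
  haveI : IsProper (X ↘ Spec (CommRingCat.of K)) := hqp
  haveI : Smooth (X ↘ Spec (CommRingCat.of K)) := hqs
  letI iA : Algebra k K := φ.toAlgebra
  have hscale : ∀ n, CurveRR.h k (Coh.structureModule X) n =
      Module.finrank k K * CurveRR.h K (Coh.structureModule X) n := fun n => by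
    haveI : IsScalarTower k K (Coh.HH X (Coh.structureModule X) n) := ⟨fun a r x => by
      change Coh.toGlobal q (φ a * r) • x =
        Coh.toGlobal (q ≫ Spec.map (CommRingCat.ofHom φ)) a • (Coh.toGlobal q r • x)
      rw [map_mul, toGlobal_comp, mul_smul]⟩
    exact (Module.finrank_mul_finrank k K _).symm
  have h0K : CurveRR.h K (Coh.structureModule X) 0 = 1 := by
    letI := CurveRR.secMod K (Coh.structureModule X) ⊤
    rw [← CurveRR.finrank_sec]
    let ψ : K →ₗ[K] Γ(Coh.structureModule X, ⊤) :=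
      { toFun := fun a => CurveRR.cst K X ⊤ a
        map_add' := map_add _
        map_smul' := fun a b => by
          show CurveRR.cst K X ⊤ (a * b) = CurveRR.cst K X ⊤ a * CurveRR.cst K X ⊤ b
          exact map_mul _ _ _ }
    have hψ : Function.Bijective ψ := by
      have h1 : (CurveRR.cst K X ⊤ : K → Γ(X, ⊤)) = Coh.toGlobal q := funext fun a =>
        resO_self (le_top : (⊤ : X.Opens) ≤ ⊤) (Coh.toGlobal q a)
      show Function.Bijective (CurveRR.cst K X ⊤ : K → Γ(X, ⊤))
      rw [h1]
      exact hK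
    rw [← (LinearEquiv.ofBijective ψ hψ).finrank_eq, Module.finrank_self]
  have hgK : 2 ≤ Curv2.genus K X := by
    rw [hscale 0, hscale 1, h0K] at hg
    exact Nat.lt_of_mul_lt_mul_left hg
  have hI : PicF.IsInvertible (Omega.sheaf q) := isInvertible_omega K X hdim h0K
  have hdeg : (0 : ℤ) < Curv2.deg K X (Omega.sheaf q) 1 := by
    have h : Curv2.deg K X (Omega.sheaf q) 1 = 2 * (Curv2.genus K X : ℤ) - 2 := (omega_facts' K X hdim h0K).2.2
    rw [h]
    omega
  have hamp : CohB1.IsAmple (Omega.sheaf q) := CurveRR.isAmple_of_deg_pos (k := K) hdim hI hdeg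
  obtain ⟨d', hd'⟩ := exists_universal_of_kill q (Spec.map (CommRingCat.ofHom φ))
    (OmegaLib.isUniversal_dOmega _) (by
    intro G D V c
    rcases TopologicalSpace.Opens.eq_bot_or_top V with rfl | rfl
    · haveI : Subsingleton (Γ(Spec (CommRingCat.of K), (⊥ : (Spec (CommRingCat.of K)).Opens))) :=
        CommRingCat.subsingleton_of_isTerminal (Spec (CommRingCat.of K)).sheaf.isTerminalOfEmpty
      rw [Subsingleton.elim c 0, map_zero, map_zero]
    · refine SmProper.der_eq_zero k X (q ≫ Spec.map (CommRingCat.ofHom φ)) (M := Γ(G, ⊤)) (D.app ⊤)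
        (fun a b => D.d_mul a b) (fun a => ?_) _
      exact D.d_app (X := op ⊤) a)
  obtain ⟨θ, -⟩ := OmegaLib.exists_iso_of_isUniversal (OmegaLib.isUniversal_dOmega q) hd'
  exact TMul.isAmple_congr θ hamp

/-- On a smooth proper integral curve with `χ(O) < 0` the differentials are ample. -/
theorem isAmple_omega [IsIntegral X] (hdim : topologicalKrullDim X = 1)
    (hg : CurveRR.h k (Coh.structureModule X) 0 < CurveRR.h k (Coh.structureModule X) 1) :
    CohB1.IsAmple (Omega.sheaf (X ↘ Spec (CommRingCat.of k))) := by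
  haveI := CurveRR.isNoetherian_of_proper k X
  rename' hg => hg'
  obtain ⟨K, iK, φ, q, hφ, hK, hqe⟩ : ∃ (K : Type u) (_ : Field K) (φ : k →+* K)
      (q : X ⟶ Spec (CommRingCat.of K)), φ.Etale ∧ Function.Bijective (Coh.toGlobal q) ∧
        q ≫ Spec.map (CommRingCat.ofHom φ) = X ↘ Spec (CommRingCat.of k) := by
    let f := X ↘ Spec (CommRingCat.of k)
    let F : CommRingCat.of k ⟶ Γ(X, ⊤) := (Scheme.ΓSpecIso _).inv ≫ f.appTop
    letI iK : Field Γ(X, ⊤) := (isField_of_universallyClosed k f).toField
    letI iA : Algebra k Γ(X, ⊤) := F.hom.toAlgebra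
    haveI : Module.Finite k Γ(X, ⊤) :=
      RingHom.finite_respectsIso.2 (e := (Scheme.ΓSpecIso (CommRingCat.of k)).symm.commRingCatIsoToRingEquiv)
        (f := f.appTop.hom) (finite_appTop_of_universallyClosed k f)
    haveI : IsReduced (TensorProduct k (AlgebraicClosure k) Γ(X, ⊤)) := SmProper.isReduced_tensor_sections k X f
    haveI : Algebra.IsSeparable k Γ(X, ⊤) :=
      ⟨fun s => SmProper.separable_minpoly (Algebra.IsIntegral.isIntegral s)⟩
    haveI : Algebra.FormallyEtale k Γ(X, ⊤) := Algebra.FormallyEtale.of_isSeparable k _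
    haveI : Algebra.FinitePresentation k Γ(X, ⊤) := Algebra.FinitePresentation.of_finiteType.mp inferInstance
    refine ⟨Γ(X, ⊤), iK, F.hom, X.toSpecΓ, RingHom.etale_algebraMap.mpr ⟨inferInstance, inferInstance⟩, ?_, ?_⟩
    · have htop : ∀ c : Γ(X, ⊤), Coh.toGlobal X.toSpecΓ c = c := fun c => by
        change X.toSpecΓ.appTop ((Scheme.ΓSpecIso _).inv c) = c
        rw [Scheme.toSpecΓ_appTop, ← CommRingCat.comp_apply, Iso.inv_hom_id, CommRingCat.id_apply]
      exact ⟨fun a b h => (htop a).symm.trans (h.trans (htop b)), fun c => ⟨c, htop c⟩⟩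
    · change X.toSpecΓ ≫ Spec.map ((Scheme.ΓSpecIso _).inv ≫ f.appTop) = f
      rw [Spec.map_comp, ← Scheme.toSpecΓ_naturality_assoc, toSpecΓ_SpecMap_ΓSpecIso_inv, Category.comp_id]
  have hp : IsProper (X ↘ Spec (CommRingCat.of k)) := inferInstance
  have hs : Smooth (X ↘ Spec (CommRingCat.of k)) := inferInstance
  rw [← hqe] at hp hs ⊢
  refine isAmple_omega_of_const k φ hφ q hK hdim ?_
  change _ < _
  have hinst : (⟨q ≫ Spec.map (CommRingCat.ofHom φ)⟩ : X.Over (Spec (CommRingCat.of k))) = ‹X.Over _› := by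
    cases ‹X.Over (Spec (CommRingCat.of k))› with | ofHom hom => exact congrArg OverClass.ofHom hqe
  convert hg' using 2

end Groth.Agent.CurveOmega

end
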