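import Groth.Agent.CurveOmega.General
import Groth.Agent.CurveRR.Series

/-!
Serre duality dimensions and base point freeness of the canonical series over any field.
-/

set_option autoImplicit false
set_option backward.isDefEq.respectTransparency false
set_option linter.style.haveILetI false
set_option linter.unusedSectionVars false

universe u

open CategoryTheory CategoryTheory.Limits AlgebraicGeometry TopologicalSpace
open Groth.Agent.CohFinite
open TMul (homOf)

noncomputable section

namespace Groth.Agent.CurveOmega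

variable (k : Type u) [Field k] (X : Scheme.{u}) [X.Over (Spec (CommRingCat.of k))]
  [IsProper (X ↘ Spec (CommRingCat.of k))] [Smooth (X ↘ Spec (CommRingCat.of k))]
  (hdim : topologicalKrullDim X = 1) (h0 : CurveRR.h k (Coh.structureModule X) 0 = 1)

include hdim h0 in
/-- `h¹(L) = h⁰(Ω ⊗ L⁻¹)`. -/
theorem h1_eq' {L M : X.Modules} (hL : PicF.IsInvertible L) (e : CohB1.tensorMod L M ≅ Coh.structureModule X) :
    CurveRR.h k L 1 = CurveRR.h k (CohB1.tensorMod (Omega.sheaf (X ↘ Spec (CommRingCat.of k))) M) 0 := by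
  have hM := NegTwist.isInvertible_inverse hL e
  have hI := isInvertible_omega k X hdim h0
  let g := barFst k X
  obtain ⟨t1⟩ := TMul.nonempty_pullTensorIso g L M
  obtain ⟨t2⟩ := TMul.nonempty_pullTensorIso g (Omega.sheaf (X ↘ Spec (CommRingCat.of k))) M
  obtain ⟨eΩ⟩ := nonempty_omega_bar k X
  have e' := h1_eq (AlgebraicClosure k) (bar k X) (smoothProper_bar k X hdim h0)
    (PicLoc.isInvertible_pullback g hL)
    (t1 ≪≫ (Scheme.Modules.pullback g).mapIso e ≪≫ PicLoc.pullbackStructureIso g)
  rw [h_bar k X (CurveRR.isCoh_of_inv hL).1, CurveRR.h_eq_of_iso (PicGrp.tensorModIso eΩ.symm (Iso.refl _) ≪≫ t2) 0,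
    h_bar k X (CurveRR.isCoh_of_inv (TMul.isInvertible_tensorMod hI hM)).1] at e'
  exact e'

include hdim h0 in
/-- The canonical series of a curve of positive genus has no base points. -/
theorem isGloballyGenerated_omega' [IsIntegral X] (hg : 1 ≤ Curv2.genus k X) :
    Curv2.IsGloballyGenerated (Omega.sheaf (X ↘ Spec (CommRingCat.of k))) := by
  haveI := CurveRR.isNoetherian_of_proper k X
  have hI := isInvertible_omega k X hdim h0
  obtain ⟨o0, -, odeg⟩ := omega_facts' k X hdim h0
  refine CurveRR.isGloballyGenerated_of_closed hI fun P hP => ?_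
  by_contra! hno
  let I := Scheme.IdealSheafData.vanishingIdeal ⟨{P}, hP⟩
  have hsupp : (I.support : Set X) = {P} := by simp [I]
  have hd : topologicalKrullDim (I.support : Set X) ≤ 0 := by
    rw [hsupp]
    exact topologicalKrullDim_zero_of_discreteTopology _
  have hIP := CurveRR.isInvertible_pointIdeal hdim.le hP (CurveRR.genericPoint_ne_of_closed (k := k) hdim hP)
    (SmLocalST.isRegularLocalRing_stalk_of_smooth_field (X ↘ Spec (CommRingCat.of k)) _)
  have hN : PicF.IsInvertible (CohB1.tensorMod (ClSub.idealMod I) (Omega.sheaf (X ↘ Spec (CommRingCat.of k)))) :=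
    TMul.isInvertible_tensorMod hIP hI
  haveI := CurveRR.mono_idealIncl hI I
  have hle : CurveRR.h k (Omega.sheaf (X ↘ Spec (CommRingCat.of k))) 0 ≤
      CurveRR.h k (CohB1.tensorMod (ClSub.idealMod I) (Omega.sheaf (X ↘ Spec (CommRingCat.of k)))) 0 := by
    haveI := finite_proper k X _ (CurveRR.isCoh_of_inv hN) 0
    letI := CurveRR.secMod k (Omega.sheaf (X ↘ Spec (CommRingCat.of k))) ⊤
    letI := CurveRR.secMod k (CohB1.tensorMod (ClSub.idealMod I) (Omega.sheaf (X ↘ Spec (CommRingCat.of k)))) ⊤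
    haveI : Module.Finite k Γ(CohB1.tensorMod (ClSub.idealMod I) (Omega.sheaf (X ↘ Spec (CommRingCat.of k))), ⊤) :=
      Module.Finite.equiv (CurveRR.secH0 (k := k) _).symm
    let φ : Γ(CohB1.tensorMod (ClSub.idealMod I) (Omega.sheaf (X ↘ Spec (CommRingCat.of k))), ⊤) →ₗ[k]
        Γ(Omega.sheaf (X ↘ Spec (CommRingCat.of k)), ⊤) :=
      { toFun := (CurveRR.idealIncl I _).app ⊤
        map_add' := map_add _
        map_smul' := fun a s => TMul.app_smul _ _ _ }
    have := φ.finrank_range_le
    rw [LinearMap.range_eq_top.mpr fun t => CurveRR.mem_range_idealIncl hI ⟨{P}, hP⟩ t fun z hz => by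
      rw [Set.mem_singleton_iff.mp hz]; exact hno t, finrank_top, CurveRR.finrank_sec, CurveRR.finrank_sec] at this
    exact this
  have hQ := CurveRR.h0_quotMod_pos (k := k) I (by rw [hsupp]; exact ⟨P, rfl⟩)
  have he := CurveRR.euler_ideal_tensor (k := k) hI I hd
  set N := CohB1.tensorMod (ClSub.idealMod I) (Omega.sheaf (X ↘ Spec (CommRingCat.of k))) with hNdef
  obtain ⟨M, hM, ⟨e⟩⟩ := W7Hull.exists_tensor_inverse hN
  have hA := TMul.isInvertible_tensorMod hI hM
  have h1 := h1_eq' k X hdim h0 hN e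
  have hdN : Curv2.deg k X N 1 =
      Curv2.deg k X (Omega.sheaf (X ↘ Spec (CommRingCat.of k))) 1 - CurveRR.h k (ClSub.quotMod I) 0 := by
    rw [Curv2.deg, Curv2.deg, he]; ring
  have hdA : Curv2.deg k X (CohB1.tensorMod (Omega.sheaf (X ↘ Spec (CommRingCat.of k))) M) 1 =
      CurveRR.h k (ClSub.quotMod I) 0 := by
    rw [CurveRR.deg_tensor_inv hdim.le hI hM]
    have h2 := CurveRR.deg_tensor_inv (k := k) hdim.le hN hM
    have h3 : Curv2.deg k X (CohB1.tensorMod N M) 1 = 0 := by
      rw [Curv2.deg, CurveRR.euler_eq_of_iso e]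
      exact CurveRR.deg_structure
    omega
  have h4 := hdN
  rw [odeg, Curv2.deg, CurveRR.euler_eq hdim.le, CurveRR.euler_structure hdim.le h0] at h4
  push_cast at h4
  obtain ⟨hb, hb'⟩ := CurveRR.series_bound (k := k) hdim.le h0 hA (by rw [← h1]; omega)
  rw [hdA, ← h1] at hb hb'
  have := hb' (by omega) (by omega)
  omega

end Groth.Agent.CurveOmega
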