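import Groth.Agent.CurveOmega.Bridge
import Groth.Agent.FunFld.Wr.DiffCanon
import Groth.Agent.OmegaLib.Smooth
import Groth.Agent.OmegaLib.FiniteType
import Groth.Agent.FittLib.SmoothCrit
import Groth.Agent.ZeroSch.Basic
import Mathlib.RingTheory.Etale.Field

/-!
The divisor of a differential on a smooth proper curve over an algebraically closed field: the sheaf of
differentials is canonical.
-/

set_option autoImplicit false
set_option backward.isDefEq.respectTransparency false
set_option linter.style.haveILetI false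
set_option linter.unusedSectionVars false

universe u

open CategoryTheory CategoryTheory.Limits AlgebraicGeometry TopologicalSpace Opposite
open Groth.Agent.WeakAssLib (mgerm mgerm_res mgerm_smul)
open Groth.Agent.RefStalk (toGen msp msp_germ msp_smul)
open Groth.Agent.RefDiv (St dv)
open Groth.Agent.QC (res)
open TMul (IsGen)
open WithZero (exp)

noncomputable section

namespace Groth.Agent.CurveOmega

attribute [local instance] CurveRR.secMod kAlg

section derivations

variable {k K : Type*} [Field k] [Field K] [Algebra k K]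

/-- A derivation killing a separating element vanishes. -/
theorem derivation_eq_zero (E : Derivation k K K) {t : K}
    [Algebra.IsSeparable (IntermediateField.adjoin k ({t} : Set K)) K] (ht : E t = 0) (y : K) : E y = 0 := by
  let K0 := IntermediateField.adjoin k ({t} : Set K)
  have h0 : ∀ c ∈ K0, E c = 0 := fun c hc => by
    induction hc using IntermediateField.adjoin_induction with
    | mem z hz => rw [Set.mem_singleton_iff.1 hz, ht]
    | algebraMap c => exact Derivation.map_algebraMap E c
    | add a b _ _ ha hb => rw [map_add, ha, hb, add_zero]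
    | inv a _ ha => rw [Derivation.leibniz_inv, ha, smul_zero]
    | mul a b _ _ ha hb => rw [Derivation.leibniz, ha, hb, smul_zero, smul_zero, add_zero]
  let E0 : Derivation K0 K K := Derivation.mk'
    { toFun := fun z => E z
      map_add' := map_add E
      map_smul' := fun c z => by
        show E ((c : K) * z) = (c : K) * E z
        rw [Derivation.leibniz, h0 _ c.2, smul_zero, add_zero, smul_eq_mul] }
    fun a b => E.leibniz a b
  haveI : Algebra.FormallyUnramified K0 K := Algebra.FormallyUnramified.of_isSeparable K0 K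
  haveI : Subsingleton (Ω[K⁄K0]) := Algebra.FormallyUnramified.subsingleton_kaehlerDifferential
  calc E y = E0 y := rfl
    _ = E0.liftKaehlerDifferential (KaehlerDifferential.D K0 K y) :=
        (Derivation.liftKaehlerDifferential_comp_D E0 y).symm
    _ = 0 := by rw [Subsingleton.elim (KaehlerDifferential.D K0 K y) 0, map_zero]

/-- Derivations of a field are multiples of the Hasse derivation of a separating element. -/
theorem derivation_eq_mul {s : K} {H : K →ₐ[k] PowerSeries K} (hH : LocRes.IsHasseFamily s H)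
    [Algebra.IsSeparable (IntermediateField.adjoin k ({s} : Set K)) K] (D : Derivation k K K) (y : K) :
    D y = LocRes.hasseD H 1 y * D s := by
  have h := derivation_eq_zero (D - D s • FunFld.hasseDer hH) (t := s) (by
    rw [Derivation.sub_apply, Derivation.smul_apply, FunFld.hasseDer_self, smul_eq_mul, mul_one, sub_self]) y
  rw [Derivation.sub_apply, Derivation.smul_apply, sub_eq_zero, smul_eq_mul, FunFld.hasseDer_apply] at h
  rw [h, mul_comm]

end derivations

variable {k : Type u} [Field k] {X : Scheme.{u}} [X.Over (Spec (CommRingCat.of k))] [IsIntegral X]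
  [IsLocallyNoetherian X]
variable (hC : Curve.IsSmoothProperCurve k X (X ↘ Spec (CommRingCat.of k)))
variable {Om : X.Modules} {d : OmegaSh.Der (X ↘ Spec (CommRingCat.of k)) Om}

include hC in
theorem fibreDimAt_eq_one (x : X) : FlatMor.fibreDimAt (X ↘ Spec (CommRingCat.of k)) x = (1 : ℕ) := by
  haveI := CurveFF.instLFT hC
  let f := X ↘ Spec (CommRingCat.of k)
  have huniv : f ⁻¹' {f x} = Set.univ := Set.eq_univ_of_forall fun y =>
    haveI : Subsingleton (Spec (CommRingCat.of k)) := inferInstanceAs (Subsingleton (PrimeSpectrum k))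
    Subsingleton.elim _ _
  let h := (f.fiberHomeo (f x)).trans ((Homeomorph.setCongr huniv).trans (Homeomorph.Set.univ _))
  refine FittLib.fibreDimAt_eq_of_components f x fun T hT => ?_
  haveI : IrreducibleSpace ↥(f.fiber (f x)) := h.irreducibleSpace_iff.2 inferInstance
  rw [irreducibleComponents_eq_singleton, Set.mem_singleton_iff] at hT
  subst hT
  rw [IsHomeomorph.topologicalKrullDim_eq _ ((Homeomorph.Set.univ _).trans h).isHomeomorph, hC.2.2.2]
  rfl

variable (hd : OmegaSh.IsUniversal d)

include hC hd in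
/-- The differentials of a smooth curve form an invertible module. -/
theorem isInvertible : PicF.IsInvertible Om := by
  haveI : Smooth (X ↘ Spec (CommRingCat.of k)) := hC.2.1
  refine ZeroSch.isInvertible_of_rankOne fun x => ?_
  obtain ⟨U, n, hxU, hiso, hn⟩ := OmegaLib.exists_free_rank_fibreDimAt hd x
  rw [fibreDimAt_eq_one hC] at hn
  obtain rfl : n = 1 := by exact_mod_cast hn.symm
  exact ⟨U, hxU, hiso⟩

/-- A representative of a rational function. -/
theorem exists_rep (φ : X.functionField) :
    ∃ (W : X.Opens) (hW : genericPoint X ∈ W) (a : Γ(X, W)), (X.presheaf.germ W _ hW).hom a = φ := by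
  obtain ⟨W, hW, a, ha⟩ := TopCat.Presheaf.exists_germ_eq X.presheaf φ
  exact ⟨W, hW, a, ha⟩

variable (d) in
/-- The differential of a rational function. -/
def dl (φ : X.functionField) : St Om :=
  mgerm Om (exists_rep φ).choose_spec.choose (d.app _ (exists_rep φ).choose_spec.choose_spec.choose)

theorem mgerm_app_eq {W W' : X.Opens} (hW : genericPoint X ∈ W) (hW' : genericPoint X ∈ W') {a : Γ(X, W)}
    {b : Γ(X, W')} (h : (X.presheaf.germ W _ hW).hom a = (X.presheaf.germ W' _ hW').hom b) :
    mgerm Om hW (d.app W a) = mgerm Om hW' (d.app W' b) := by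
  have hm : genericPoint X ∈ W ⊓ W' := ⟨hW, hW'⟩
  rw [← mgerm_res Om (inf_le_left : W ⊓ W' ≤ W) hm, ← mgerm_res Om (inf_le_right : W ⊓ W' ≤ W') hm,
    OmegaLib.res_app, OmegaLib.res_app]
  congr 2
  refine germ_injective_of_isIntegral X (genericPoint X) hm ?_
  exact (X.presheaf.germ_res_apply _ _ _ _).trans (h.trans (X.presheaf.germ_res_apply _ _ _ _).symm)

theorem dl_germ {W : X.Opens} (hW : genericPoint X ∈ W) (a : Γ(X, W)) :
    dl d ((X.presheaf.germ W _ hW).hom a) = mgerm Om hW (d.app W a) :=
  mgerm_app_eq _ hW (exists_rep _).choose_spec.choose_spec.choose_spec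

theorem dl_add (a b : X.functionField) : dl d (a + b) = dl d a + dl d b := by
  obtain ⟨W, hW, a', rfl⟩ := exists_rep a
  obtain ⟨W', hW', b', rfl⟩ := exists_rep b
  have hm : genericPoint X ∈ W ⊓ W' := ⟨hW, hW'⟩
  rw [← X.presheaf.germ_res_apply (homOfLE (inf_le_left : W ⊓ W' ≤ W)) _ hm a',
    ← X.presheaf.germ_res_apply (homOfLE (inf_le_right : W ⊓ W' ≤ W')) _ hm b', ← map_add,
    dl_germ, dl_germ, dl_germ, map_add, map_add]

theorem dl_mul (a b : X.functionField) : dl d (a * b) = a • dl d b + b • dl d a := by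
  obtain ⟨W, hW, a', rfl⟩ := exists_rep a
  obtain ⟨W', hW', b', rfl⟩ := exists_rep b
  have hm : genericPoint X ∈ W ⊓ W' := ⟨hW, hW'⟩
  rw [← X.presheaf.germ_res_apply (homOfLE (inf_le_left : W ⊓ W' ≤ W)) _ hm a',
    ← X.presheaf.germ_res_apply (homOfLE (inf_le_right : W ⊓ W' ≤ W')) _ hm b', ← map_mul,
    dl_germ, dl_germ, dl_germ, OmegaLib.app_mul, map_add, mgerm_smul, mgerm_smul]

theorem dl_algebraMap (c : k) : dl d (algebraMap k X.functionField c) = 0 := by
  show dl d ((X.presheaf.germ ⊤ _ (topη X)).hom (Groth.Agent.WeilLib.secStr (X ↘ Spec (CommRingCat.of k)) ⊤ c)) = 0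
  rw [dl_germ, show d.app ⊤ (Groth.Agent.WeilLib.secStr (X ↘ Spec (CommRingCat.of k)) ⊤ c) = 0 from by
      rw [Groth.Agent.WeilLib.secStr]; exact OmegaLib.app_appLE d le_top _, map_zero]

/-- The differential in terms of a frame at the generic point. -/
theorem exists_derivation {g : St Om} (hg : g ≠ 0) (hlat : RefDiv.Lat Om) :
    ∃ D : Derivation k X.functionField X.functionField, ∀ y, D y • g = dl d y := by
  choose c hc using fun y => hlat.exists_smul hg (dl d y)
  have hlin : ∀ a b, c (a + b) = c a + c b := fun a b => RefDiv.smul_cancel hg (by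
    rw [hc, dl_add, add_smul, hc, hc])
  have hmul : ∀ a b, c (a * b) = a * c b + b * c a := fun a b => RefDiv.smul_cancel hg (by
    rw [hc, dl_mul, add_smul, mul_smul, mul_smul, hc, hc])
  have hcst : ∀ r : k, c (algebraMap k X.functionField r) = 0 := fun r => RefDiv.smul_cancel hg (by
    rw [hc, dl_algebraMap]; exact (zero_smul X.functionField g).symm)
  refine ⟨Derivation.mk'
    { toFun := c
      map_add' := hlin
      map_smul' := fun r y => by
        show c (r • y) = r • c y
        rw [Algebra.smul_def, hmul, hcst, mul_zero, add_zero, Algebra.smul_def] }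
    fun a b => (hmul a b), hc⟩

variable [IsAlgClosed k]

include hC hd in
/-- At a closed point the differential of a uniformiser generates. -/
theorem dl_param (P : FunFld.Place k X.functionField) {t : X.functionField} (ht : P.1 t = exp (-1))
    {H : X.functionField →ₐ[k] PowerSeries X.functionField} (hH : LocRes.IsHasseFamily t H) :
    (∀ y, dl d y = LocRes.hasseD H 1 y • dl d t) ∧ dl d t ≠ 0 ∧ dvp hC Om (dl d t) P = 0 := by
  have hK := isFunctionField hC
  have hlat := RefDiv.lat_of_isInvertible (isInvertible hC hd)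
  haveI := (FunFld.separable_of_val hK ht).2
  obtain ⟨g, hg, -⟩ := hlat.gen
  obtain ⟨D, hD⟩ := exists_derivation (d := d) hg hlat
  have hchain : ∀ y, dl d y = LocRes.hasseD H 1 y • dl d t := fun y => by
    rw [← hD y, ← hD t, derivation_eq_mul hH D y, mul_smul]
  refine ⟨hchain, ?_⟩
  set x := pt hC P with hxdef
  have hx := coheight_pt hC P
  obtain ⟨m, hm⟩ := hlat.exists_span (normal hC) hx
  obtain ⟨W, hW, e, he⟩ := TopCat.Presheaf.exists_germ_eq Om.presheaf m
  obtain ⟨U, hU, hxU, hUW⟩ := exists_isAffineOpen_mem_and_subset hW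
  have hηU : genericPoint X ∈ U := (toGen x).mem_open U.2 hxU
  have hle : ∀ r : Γ(X, U), P.1 ((X.presheaf.germ U _ hηU).hom r) ≤ 1 := fun r => by
    rcases eq_or_ne ((X.presheaf.germ U _ hηU).hom r) 0 with h0 | h0
    · rw [h0, map_zero]; exact zero_le
    rw [← FunFld.ord_nonneg_iff P h0, ← ord_pt hC P h0, RefDiv.ord_nonneg_iff (normal hC) hx h0]
    exact ⟨(X.presheaf.germ U x hxU).hom r, X.presheaf.germ_stalkSpecializes_apply hxU (toGen x) r⟩
  have hspan := OmegaLib.span_app hd (U := U) (V := ⊤) le_top hU (isAffineOpen_top (Spec (CommRingCat.of k)))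
  have hex : ∀ q : Γ(Om, U), ∃ b, P.1 b ≤ 1 ∧ mgerm Om hηU q = b • dl d t := fun q => by
    have hq : q ∈ Submodule.span Γ(X, U) (Set.range (d.app U)) := by rw [hspan]; exact trivial
    induction hq using Submodule.span_induction with
    | mem q hq =>
      obtain ⟨a, rfl⟩ := hq
      refine ⟨LocRes.hasseD H 1 ((X.presheaf.germ U _ hηU).hom a), FunFld.val_hasseD_le hK ht hH (hle a) 1, ?_⟩
      rw [← hchain, dl_germ]
    | zero => exact ⟨0, by rw [map_zero]; exact zero_le, by rw [map_zero]; exact (zero_smul X.functionField (dl d t)).symm⟩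
    | add p q _ _ hp hq =>
      obtain ⟨b, hb, hbp⟩ := hp
      obtain ⟨b', hb', hbq⟩ := hq
      exact ⟨b + b', (P.1.map_add b b').trans (max_le hb hb'), by rw [map_add, hbp, hbq]; exact (add_smul b b' _).symm⟩
    | smul r q _ hq =>
      obtain ⟨b, hb, hbq⟩ := hq
      refine ⟨(X.presheaf.germ U _ hηU).hom r * b, ?_, by rw [mgerm_smul, hbq]; exact (mul_smul _ b _).symm⟩
      rw [map_mul]
      exact (mul_le_mul' (hle r) hb).trans_eq (one_mul _)
  obtain ⟨b, hb, hbe⟩ := hex (res Om hUW e)
  have hmsp : msp Om (toGen x) m = b • dl d t := by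
    rw [← hbe, mgerm_res, ← msp_germ Om (toGen x) hW e]
    exact congrArg _ he.symm
  have hm0 := hlat.msp_ne_zero hm
  have ht0 : dl d t ≠ 0 := fun h => hm0 (by rw [hmsp, h]; exact smul_zero _)
  refine ⟨ht0, ?_⟩
  have htne : t ≠ 0 := FunFld.ne_zero_of_val P ht
  -- the differential of the uniformiser lies in the stalk
  obtain ⟨r, hr⟩ : ∃ r : X.presheaf.stalk x, msp Om (toGen x) (r • m) = dl d t := by
    obtain ⟨a, ha⟩ := (RefDiv.ord_nonneg_iff (normal hC) hx htne).1 (by
        rw [ord_pt hC P htne,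
          FunFld.ord_eq_of_val P ht]; norm_num)
    obtain ⟨V, hV, a', ha'⟩ := TopCat.Presheaf.exists_germ_eq X.presheaf a
    obtain ⟨r, hr⟩ := RefDiv.exists_smul_of_span hm (mgerm Om hV (d.app V a'))
    refine ⟨r, ?_⟩
    rw [hr, msp_germ Om (toGen x) hV, ← dl_germ, ← ha]
    congr 1
    rw [← ha']
    exact (X.presheaf.germ_stalkSpecializes_apply hV (toGen x) a').symm
  rw [msp_smul, hmsp, smul_smul] at hr
  have h1 : RefDiv.sp x r * b = 1 := RefDiv.smul_cancel ht0 (hr.trans (one_smul X.functionField _).symm)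
  have hb0 : b ≠ 0 := fun h => by rw [h, mul_zero] at h1; exact zero_ne_one h1
  have hr0 : RefDiv.sp x r ≠ 0 := fun h => by rw [h, zero_mul] at h1; exact zero_ne_one h1
  have hrn : 0 ≤ Scheme.ord (RefDiv.sp x r) x := (RefDiv.ord_nonneg_iff (normal hC) hx hr0).2 ⟨r, rfl⟩
  have hbn : 0 ≤ Scheme.ord b x := by rw [ord_pt hC P hb0, FunFld.ord_nonneg_iff P hb0]; exact hb
  have hsum : Scheme.ord (RefDiv.sp x r) x + Scheme.ord b x = 0 := by
    rw [← Scheme.ord_mul hr0 hb0, h1, RefDiv.ord_one]
  show dv Om x (dl d t) = 0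
  rw [dv, hlat.secOrdAt_mk hx hm hr0 (by rw [hmsp, smul_smul]; exact hr)]
  rw [← hxdef] at *
  omega

include hC hd in
/-- `Ω` has the divisor of a differential: it is canonical. -/
theorem exists_canonical : ∃ (s : St Om), s ≠ 0 ∧ FunFld.IsCanonical k X.functionField (divOf hC Om s) ∧
    (divOf hC Om s).deg = 2 * (FunFld.genus k X.functionField : ℤ) - 2 ∧
    FunFld.ell (divOf hC Om s) = FunFld.genus k X.functionField := by
  have hK := isFunctionField hC
  have hI := isInvertible hC hd
  have hlat := RefDiv.lat_of_isInvertible hI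
  obtain ⟨Φ, hΦ⟩ := FunFld.exists_expansion hK
  obtain ⟨P₀⟩ := FunFld.exists_place_any hK
  obtain ⟨s, hs⟩ := FunFld.exists_val P₀ (-1)
  obtain ⟨H, hH⟩ := FunFld.exists_hasse_at hK hs
  have hs0 := (dl_param hC hd P₀ hs hH).2.1
  have heq : divOf hC Om (dl d s) = FunFld.divDiff Φ 1 s := by
    refine Finsupp.ext fun P => ?_
    obtain ⟨t, ht⟩ := FunFld.exists_val P (-1)
    obtain ⟨Ht, hHt⟩ := FunFld.exists_hasse_at hK ht
    obtain ⟨hchain, ht0, htP⟩ := dl_param hC hd P ht hHt
    have hc : LocRes.hasseD Ht 1 s ≠ 0 := fun h => hs0 (by rw [hchain, h]; exact zero_smul X.functionField _)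
    rw [divOf_apply hC hI hs0, (FunFld.divDiff_facts hK hH Φ hΦ).1 P, FunFld.ordDiff_eq hK ht hHt (hΦ P),
      one_mul, hchain, dvp, RefDiv.dv_smul (normal hC) hlat ht0 hc (coheight_pt hC P), ord_pt hC P hc]
    rw [dvp] at htP
    rw [htP, add_zero]
  obtain ⟨hcan, hell⟩ := FunFld.isCanonical_divDiff hK hH Φ hΦ
  exact ⟨dl d s, hs0, by rw [heq]; exact hcan, by rw [heq]; exact (FunFld.divDiff_facts hK hH Φ hΦ).2,
    by rw [heq]; exact hell⟩

include hC hd in
theorem h0_deg : CurveRR.h k Om 0 = Curv2.genus k X ∧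
    Curv2.deg k X Om 1 = 2 * (Curv2.genus k X : ℤ) - 2 := by
  obtain ⟨s, hs, -, hdeg, hell⟩ := exists_canonical hC hd
  obtain ⟨hg, hall⟩ := deg_genus hC
  have hI := isInvertible hC hd
  rw [h_eq_ell hC hI hs, hg, ← hall Om hI s hs]
  exact ⟨hell, hdeg⟩

include hC hd in
/-- An invertible module of degree `2g-2` with `g` sections is the module of differentials. -/
theorem nonempty_iso {L : X.Modules} (hL : PicF.IsInvertible L)
    (hdeg : Curv2.deg k X L 1 = 2 * (Curv2.genus k X : ℤ) - 2) (hh0 : Curv2.genus k X ≤ CurveRR.h k L 0) :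
    Nonempty (L ≅ Om) := by
  haveI := instNoeth hC
  have hK := isFunctionField hC
  obtain ⟨hg, hall⟩ := deg_genus hC
  obtain ⟨s, hs, hcan, hsdeg, -⟩ := exists_canonical hC hd
  have hI := isInvertible hC hd
  have lO := RefDiv.lat_of_isInvertible hI
  obtain ⟨t, ht, -⟩ := (RefDiv.lat_of_isInvertible hL).gen
  set C := divOf hC Om s with hCdef
  set D := divOf hC L t with hDdef
  have hDdeg : D.deg = 2 * (FunFld.genus k X.functionField : ℤ) - 2 := by rw [hDdef, hall L hL t ht, hdeg, hg]
  have hDell : FunFld.genus k X.functionField ≤ FunFld.ell D := by rw [hDdef, ← h_eq_ell hC hL ht, ← hg]; exact hh0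
  have hrr := FunFld.riemann_roch hK hcan D
  obtain ⟨x, hx0, hx⟩ := FunFld.exists_pos_of_ell hK (D := C - D) (by omega)
  have hd0 : (C - D + _root_.FunFld.div k x).deg = 0 := by
    rw [FunFld.deg_add, FunFld.deg_sub, FunFld.deg_div hK, hsdeg, hDdeg]; ring
  have h0 := (FunFld.deg_eq_zero_iff hK hx).1 hd0
  have e : ∀ P, D P = C P + P.ord x := fun P => by
    have := congrArg (fun E : FunFld.Divisor k X.functionField => E P) h0
    simp only [Finsupp.add_apply, Finsupp.sub_apply, Finsupp.coe_zero, Pi.zero_apply, FunFld.div_apply hK] at this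
    omega
  refine RefDiv.nonempty_iso (normal hC) (RefDiv.isRef1_of_isInvertible hL) (RefDiv.isRef1_of_isInvertible hI)
    (D := fun y => dv L y t) ⟨t, ht, fun y _ => rfl⟩ ⟨x • s, RefDiv.smul_ne_zero' hs hx0, fun y hy => ?_⟩
  obtain ⟨P, rfl⟩ := exists_pt_eq hC (isClosed_of_coheight hC hy)
  have e1 := e P
  rw [hDdef, hCdef, divOf_apply hC hL ht, divOf_apply hC hI hs, dvp, dvp] at e1
  rw [RefDiv.dv_smul (normal hC) lO hs hx0 hy, ord_pt hC P hx0]
  show _ = dv L (pt hC P) t
  omega

end Groth.Agent.CurveOmega
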