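import Groth.Agent.CurveOmega.RatPt
import Groth.Agent.CurveFF.Basic
import Groth.Agent.CurveVA.Key
import Groth.Agent.SerrePn.Basic
import Groth.Agent.S8914
import Groth.Agent.S1570
import Mathlib

/-!
An invertible module that separates points and tangent vectors has no degenerate fibres.
-/

set_option autoImplicit false
set_option backward.isDefEq.respectTransparency false
set_option linter.style.haveILetI false
set_option maxHeartbeats 2000000

universe u

open CategoryTheory CategoryTheory.Limits AlgebraicGeometry TopologicalSpace Opposite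
open Groth.Agent.CohFinite Groth.Agent.CurveRR
open Groth.Agent.QC (res res_self app_res)
open TMul (IsGen homOf val_homOf tm)

noncomputable section

namespace Groth.Agent.CurveOmega

variable {k : Type u} [Field k] {X : Scheme.{u}} [X.Over (Spec (CommRingCat.of k))] [IsIntegral X]
  [IsProper (X ↘ Spec (CommRingCat.of k))]

/-- A nonzero ideal with finite support on a smooth curve is invertible. -/
theorem isInvertible_idealMod [Smooth (X ↘ Spec (CommRingCat.of k))] (hdim : topologicalKrullDim X = 1)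
    (I : X.IdealSheafData) (hη : genericPoint X ∉ (I.support : Set X)) :
    PicF.IsInvertible (ClSub.idealMod I) := by
  haveI := isNoetherian_of_proper k X
  have hC : Curve.IsSmoothProperCurve k X (X ↘ Spec (CommRingCat.of k)) :=
    ⟨inferInstance, inferInstance, inferInstance, hdim⟩
  refine (Groth.Agent.S8914.result _).mpr (Groth.Agent.S1570.result X _ fun x hx U hxU => ?_)
  have hne : x ≠ genericPoint X := fun h => hη (h ▸ hx)
  haveI := CurveFF.stalk_dvr hC (CurveFF.isClosed_of_ne_generic hC hne)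
  let M := (I.ideal U).map (X.presheaf.germ U.1 x hxU).hom
  obtain ⟨g, hg⟩ := (IsPrincipalIdealRing.principal M).principal
  refine ⟨g, mem_nonZeroDivisors_of_ne_zero fun hg0 => hη ?_, hg⟩
  haveI : Nonempty U.1 := ⟨⟨x, hxU⟩⟩
  have hzero : ∀ c ∈ I.ideal U, c = 0 := fun c hc => by
    refine germ_injective_of_isIntegral X x hxU (Eq.trans ?_ (map_zero _).symm)
    have : (X.presheaf.germ U.1 x hxU).hom c ∈ M := Ideal.mem_map_of_mem _ hc
    rw [hg, hg0] at this
    simpa using this
  have hηU : genericPoint X ∈ U.1 := (genericPoint_specializes x).mem_open U.1.2 hxU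
  show genericPoint X ∈ I.support
  rw [Scheme.IdealSheafData.mem_support_iff_of_mem (U := U) hηU, Scheme.mem_zeroLocus_iff]
  intro c hc
  rw [hzero c hc]
  simp

/-- A positive degree module with a section has a section after twisting down somewhere. -/
theorem exists_vanish (hdim : topologicalKrullDim X = 1) {L : X.Modules} (hL : PicF.IsInvertible L)
    (s : Coh.structureModule X ⟶ L) (hs : s ≠ 0) (hdeg : 0 < Curv2.deg k X L 1) :
    ∃ (P : X) (hP : IsClosed ({P} : Set X))
      (u : Coh.structureModule X ⟶ CohB1.tensorMod (ClSub.idealMod (Scheme.IdealSheafData.vanishingIdeal ⟨{P}, hP⟩)) L),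
      u ≠ 0 := by
  haveI := isNoetherian_of_proper k X
  obtain ⟨x, hx⟩ : ∃ x, x ∉ CohB1.genLocus L s := by
    by_contra! hall
    have hg : IsGen (TMul.val s ⊤) := by
      have h := TMul.isGen_genLocus s
      rwa [show CohB1.genLocus L s = ⊤ from top_le_iff.mp fun x _ => hall x] at h
    haveI : IsIso s := GrT.isIso_of_locally s
      (fun U a b hab => (hg U le_top).1 (by
        simpa only [TMul.app_eq_smul, TMul.res_val] using hab))
      fun U t x hx => ⟨U, le_rfl, hx, by
        obtain ⟨a, ha⟩ := (hg U le_top).2 t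
        exact ⟨a, by rw [res_self, TMul.app_eq_smul, ← ha]; simp only [TMul.res_val]⟩⟩
    have := euler_eq_of_iso (k := k) (asIso s)
    rw [Curv2.deg, ← this] at hdeg
    push_cast at hdeg
    omega
  obtain ⟨P, hPx, hPc⟩ := (isClosed_closure (s := ({x} : Set X))).exists_closed_singleton ⟨x, subset_closure rfl⟩
  have hPn : P ∉ CohB1.genLocus L s := fun hP =>
    hx ((specializes_iff_mem_closure.mpr hPx).mem_open (CohB1.genLocus L s).2 hP)
  let t := TMul.val s ⊤
  have hts : homOf t = s := TMul.hom_ext_val (val_homOf t ⊤ |>.trans (res_self _ _ _))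
  obtain ⟨u, hu⟩ := mem_range_idealIncl hL ⟨{P}, hPc⟩ t fun z hz => by
    rw [Set.mem_singleton_iff.mp hz, hts]; exact hPn
  refine ⟨P, hPc, homOf u, fun h0' => hs ?_⟩
  have e : u = 0 := by
    have := congrArg (fun φ => TMul.val φ ⊤) h0'
    simp only [val_homOf, res_self] at this
    exact this
  rw [← hts, ← hu, e, map_zero]
  exact TMul.hom_ext_val (by rw [val_homOf, map_zero]; rfl)

/-- A nonzero map of invertible modules is injective on global sections. -/
theorem h0_le_of_hom {A B : X.Modules} (hA : PicF.IsInvertible A) (hB : PicF.IsInvertible B) (φ : A ⟶ B)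
    (hφ : φ ≠ 0) : h k A 0 ≤ h k B 0 := by
  haveI := isNoetherian_of_proper k X
  haveI := mono_of_ne_zero hA hB φ hφ
  letI := secMod k A ⊤
  letI := secMod k B ⊤
  haveI := finite_proper k X _ (isCoh_of_inv hB) 0
  haveI : Module.Finite k Γ(B, ⊤) := Module.Finite.equiv (secH0 (k := k) B).symm
  rw [← finrank_sec, ← finrank_sec]
  exact LinearMap.finrank_le_finrank_of_injective
    (f := ({ toFun := φ.app ⊤
             map_add' := map_add _
             map_smul' := fun a s => TMul.app_smul φ _ _ } : Γ(A, ⊤) →ₗ[k] Γ(B, ⊤)))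
    (Groth.Agent.QC.app_injective_of_mono φ ⊤)

/-- Separation of points and tangents forbids fibres on which all sections are proportional. -/
theorem false_of_fibre' [IsAlgClosed k] [Smooth (X ↘ Spec (CommRingCat.of k))] (hdim : topologicalKrullDim X = 1)
    {L : X.Modules} (hL : PicF.IsInvertible L)
    (hsep : ∀ (P Q : X) (hP : IsClosed ({P} : Set X)) (hQ : IsClosed ({Q} : Set X)),
      h k (CohB1.tensorMod L (CohB1.tensorMod (ClSub.idealMod (Scheme.IdealSheafData.vanishingIdeal ⟨{P}, hP⟩))
        (ClSub.idealMod (Scheme.IdealSheafData.vanishingIdeal ⟨{Q}, hQ⟩)))) 0 + 2 = h k L 0)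
    {I : X.IdealSheafData} {K : Type u} [Field K] [Algebra k K] (hI : topologicalKrullDim (I.support : Set X) ≤ 0)
    [Module.Finite k K] (ι : K →+* Γ(I.subscheme, I.subschemeι ⁻¹ᵁ ⊤))
    (hι : ∀ a : k, ι (algebraMap k K a) = (I.subschemeι.app ⊤).hom (CurveRR.cst k X ⊤ a))
    (hQ : Module.finrank k K < h k (ClSub.quotMod I) 0) (g0 : Γ(L, ⊤))
    (hs : ∀ s : Γ(L, ⊤), ∃ c : K, tm (CurveVA.qmap ι 1) s = tm (CurveVA.qmap ι c) g0) : False := by
  classical
  haveI := isNoetherian_of_proper k X
  have h00 := h0_structure k X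
  have hKb : Function.Bijective (algebraMap k K) :=
    IsAlgClosed.algebraMap_bijective_of_isIntegral
  rw [Module.finrank_of_bijective_algebraMap hKb] at hQ
  have hη : genericPoint X ∉ (I.support : Set X) := fun hη => by
    have hsub : (I.support : Set X) = Set.univ :=
      Set.eq_univ_of_forall fun z => (genericPoint_specializes z).mem_closed I.support.isClosed hη
    have h1 : topologicalKrullDim (I.support : Set X) = 1 := by
      rw [← hdim]
      exact IsHomeomorph.topologicalKrullDim_eq _
        ((Homeomorph.setCongr hsub).trans (Homeomorph.Set.univ _)).isHomeomorph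
    rw [h1] at hI
    exact absurd hI (by norm_num)
  -- the kernel of restriction
  letI := secMod k L ⊤
  let QL : X.Modules := CohB1.tensorMod (ClSub.quotMod I) L
  letI := secMod k QL ⊤
  let R : Γ(L, ⊤) →ₗ[k] Γ(QL, ⊤) :=
    { toFun := fun s => tm (CurveVA.qmap ι 1) s
      map_add' := fun s t => TMul.add_tm _ _ _
      map_smul' := fun a s => TMul.tm_smul _ _ _ }
  have hrange : LinearMap.range R ≤ Submodule.span k {tm (CurveVA.qmap ι 1) g0} := by
    rintro _ ⟨s, rfl⟩
    obtain ⟨c, hc⟩ := hs s
    obtain ⟨a, rfl⟩ := hKb.2 c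
    refine Submodule.mem_span_singleton.2 ⟨a, (Eq.trans ?_ hc.symm)⟩
    show CurveRR.cst k X ⊤ a • tm (CurveVA.qmap ι 1) g0 = _
    rw [← TMul.smul_tm]
    refine congrArg (fun q => tm q g0) ?_
    show (I.subschemeι.app ⊤).hom (CurveRR.cst k X ⊤ a) * ι 1 = ι (algebraMap k K a)
    rw [map_one, mul_one, hι]
  haveI := finite_proper k X _ (isCoh_of_inv hL) 0
  haveI : Module.Finite k Γ(L, ⊤) := Module.Finite.equiv (secH0 (k := k) L).symm
  have hr1 : Module.finrank k (LinearMap.range R) ≤ 1 :=
    (Submodule.finrank_mono hrange).trans ((finrank_span_le_card _).trans (by simp))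
  -- sections vanishing on the fibre
  have hIinv := isInvertible_idealMod (k := k) hdim I hη
  have hIL := TMul.isInvertible_tensorMod hIinv hL
  haveI := mono_idealIncl hL I
  have hker : Module.finrank k (LinearMap.ker R) ≤ h k (CohB1.tensorMod (ClSub.idealMod I) L) 0 := by
    letI := secMod k (CohB1.tensorMod (ClSub.idealMod I) L) ⊤
    haveI := finite_proper k X _ (isCoh_of_inv hIL) 0
    haveI : Module.Finite k Γ(CohB1.tensorMod (ClSub.idealMod I) L, ⊤) :=
      Module.Finite.equiv (secH0 (k := k) _).symm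
    let φ : Γ(CohB1.tensorMod (ClSub.idealMod I) L, ⊤) →ₗ[k] Γ(L, ⊤) :=
      { toFun := (idealIncl I L).app ⊤
        map_add' := map_add _
        map_smul' := fun a s => TMul.app_smul _ _ _ }
    rw [← finrank_sec]
    refine (Submodule.finrank_mono ?_).trans φ.finrank_range_le
    intro s hs0
    have hs0' : R s = 0 := hs0
    have hS := shortExact_tmap hL (ideal_shortExact I)
    have h1 : tm (M := Coh.structureModule X) (1 : Γ(X, ⊤)) s ∈
        Set.range ((tmap (ClSub.idealModι I) L).app ⊤) := by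
      refine Groth.Agent.SiteCoh.sections_exact (shortExact_toAb hS) ⊤ _ ?_
      show (tmap (ClSub.toSubscheme I) L).app ⊤ (tm (M := Coh.structureModule X) (1 : Γ(X, ⊤)) s) = 0
      rw [tmap_tm]
      refine Eq.trans (congrArg (fun q : Γ(ClSub.quotMod I, ⊤) => tm q s) ?_) hs0'
      show (I.subschemeι.app ⊤).hom (1 : Γ(X, ⊤)) = ι 1
      rw [map_one, map_one]
    obtain ⟨u, hu⟩ := h1
    refine ⟨u, ?_⟩
    show (TMul.leftUnitIso L).hom.app ⊤ ((tmap (ClSub.idealModι I) L).app ⊤ u) = s
    rw [hu, leftUnitIso_tm, one_smul]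
  have hbig : h k L 0 ≤ h k (CohB1.tensorMod (ClSub.idealMod I) L) 0 + 1 := by
    have := R.finrank_range_add_finrank_ker
    rw [finrank_sec] at this
    omega
  -- the fibre lies in a divisor of degree two
  obtain ⟨J, hJ, ⟨θ⟩⟩ := W7Hull.exists_tensor_inverse hIinv
  have hdJ : Curv2.deg k X J 1 = h k (ClSub.quotMod I) 0 := by
    have he := euler_ideal_tensor (k := k) hJ I hI
    rw [euler_eq_of_iso θ] at he
    rw [Curv2.deg]; push_cast; omega
  haveI := mono_idealIncl hJ I
  have hs0 : θ.inv ≫ idealIncl I J ≠ 0 := fun h0' => by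
    have hO : Coh.structureModule X ≅ CohB1.tensorMod (ClSub.idealMod I) J := θ.symm
    have : (𝟙 (CohB1.tensorMod (ClSub.idealMod I) J)) = 0 := by
      rw [← cancel_mono (idealIncl I J), Category.id_comp, zero_comp, ← cancel_epi θ.inv, h0', comp_zero]
    have h' : h k (CohB1.tensorMod (ClSub.idealMod I) J) 0 = 1 := by rw [h_eq_of_iso θ 0, h00]
    obtain ⟨t, ht⟩ := exists_section (k := k) (L := CohB1.tensorMod (ClSub.idealMod I) J) (by omega)
    exact ht (by rw [← Category.comp_id t, this, comp_zero])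
  obtain ⟨P, hP, s₁, hs₁⟩ := exists_vanish (k := k) hdim hJ _ hs0 (by omega)
  have hIP := isInvertible_pointIdeal hdim.le hP (genericPoint_ne_of_closed (k := k) hdim hP)
    (SmLocalST.isRegularLocalRing_stalk_of_smooth_field (X ↘ Spec (CommRingCat.of k)) _)
  have hd1 : Curv2.deg k X (CohB1.tensorMod (ClSub.idealMod (Scheme.IdealSheafData.vanishingIdeal ⟨{P}, hP⟩)) J) 1 =
      h k (ClSub.quotMod I) 0 - 1 := by
    rw [Curv2.deg, euler_pointIdeal (k := k) hP hJ]
    rw [Curv2.deg] at hdJ
    linarith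
  obtain ⟨Q, hQc, s₂, hs₂⟩ := exists_vanish (k := k) hdim (TMul.isInvertible_tensorMod hIP hJ) s₁ hs₁ (by omega)
  have hIQ := isInvertible_pointIdeal hdim.le hQc (genericPoint_ne_of_closed (k := k) hdim hQc)
    (SmLocalST.isRegularLocalRing_stalk_of_smooth_field (X ↘ Spec (CommRingCat.of k)) _)
  let IP := ClSub.idealMod (Scheme.IdealSheafData.vanishingIdeal ⟨{P}, hP⟩)
  let IQ := ClSub.idealMod (Scheme.IdealSheafData.vanishingIdeal ⟨{Q}, hQc⟩)
  -- twist the map by `I ⊗ L`
  let A := CohB1.tensorMod (ClSub.idealMod I) L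
  obtain ⟨ω⟩ : Nonempty (CohB1.tensorMod (CohB1.tensorMod IQ (CohB1.tensorMod IP J)) A ≅
      CohB1.tensorMod L (CohB1.tensorMod IP IQ)) := ⟨
    PicGrp.tensorModIso ((TMul.assocIso IQ IP J).symm ≪≫ PicGrp.tensorModIso (TMul.commIso IQ IP) (Iso.refl J))
        (Iso.refl A) ≪≫
      TMul.assocIso _ J A ≪≫
      PicGrp.tensorModIso (Iso.refl _) ((TMul.assocIso J (ClSub.idealMod I) L).symm ≪≫
        PicGrp.tensorModIso (TMul.commIso J (ClSub.idealMod I) ≪≫ θ) (Iso.refl L) ≪≫ TMul.leftUnitIso L) ≪≫
      TMul.commIso _ L⟩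
  let φ : A ⟶ CohB1.tensorMod L (CohB1.tensorMod IP IQ) := (TMul.leftUnitIso A).inv ≫ tmap s₂ A ≫ ω.hom
  have hT := TMul.isInvertible_tensorMod hL (TMul.isInvertible_tensorMod hIP hIQ)
  have hφ : φ ≠ 0 := fun h0' => by
    haveI := mono_of_ne_zero TMul.isInvertible_structureModule
      (TMul.isInvertible_tensorMod hIQ (TMul.isInvertible_tensorMod hIP hJ)) s₂ hs₂
    haveI : Mono (tmap s₂ A) := (Groth.Agent.QC.mono_iff_app_injective _).2
      (tmap_eq_zero_locally hIL s₂ fun U => Groth.Agent.QC.app_injective_of_mono s₂ U)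
    have e : 𝟙 A = 0 := by
      rw [← cancel_mono φ]
      simp [h0']
    by_cases hA0 : h k A 0 = 0
    · have := hsep P Q hP hQc
      have : h k (CohB1.tensorMod (ClSub.idealMod I) L) 0 = 0 := hA0
      omega
    · obtain ⟨t, ht⟩ := exists_section (k := k) (L := A) hA0
      exact ht (by rw [← Category.comp_id t, e, comp_zero])
  have hle := h0_le_of_hom (k := k) hIL hT φ hφ
  have := hsep P Q hP hQc
  omega

end Groth.Agent.CurveOmega
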